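/-
Degree `p² + 1` with small two-point stabilisers.

* `not_zassenhaus` : no Zassenhaus group of degree `p² + 1` has a two-point stabiliser of order below `p`
* `sign_of_fixed` : the parity of an involution from its number of fixed points
* `two_point_trivial` : sharply two-transitive groups of degree `p² + 1` do not exist
-/
import Cfsg.Agent.Lib.Zassenhaus.AbelianKernel
import Cfsg.Agent.S0054
import Cfsg.Agent.Lib.Perm.Regular

set_option autoImplicit false
set_option linter.unusedSectionVars false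

namespace Cfsg.Agent.SqPlusOne

open MulAction Pointwise

variable {G Ω : Type*} [Group G] [Finite G] [MulAction G Ω] [Fintype Ω] [FaithfulSMul G Ω] {p : ℕ}

theorem not_zassenhaus (hp : p.Prime) (hp2 : p ≠ 2) (hn : Fintype.card Ω = p ^ 2 + 1)
    (h2 : IsMultiplyPretransitive G Ω 2) {a b : Ω} (hab : a ≠ b) (P : Subgroup G)
    (hPa : P ≤ stabilizer G a) (hPc : Nat.card P = p ^ 2)
    (hPab : ∀ u ∈ P, ∀ w ∈ P, u * w = w * u)
    (hPfix : ∀ u ∈ P, u ≠ 1 → ∀ c : Ω, u • c = c → c = a)
    (hne : ∃ g : G, g ≠ 1 ∧ g • a = a ∧ g • b = b)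
    (hfix : ∀ g : G, g • a = a → g • b = b → g ≠ 1 → ∀ c : Ω, g • c = c → c = a ∨ c = b)
    (hle : Nat.card ↥(stabilizer G a ⊓ stabilizer G b) ≤ p - 1) : False := by
  have hp3 : 3 ≤ p := by have := hp.two_le; omega
  have hZ : Cfsg.IsZassenhausGroup G Ω := by
    refine ⟨inferInstance, h2, fun g x y z hxy hyz hxz hx hy hz => ?_, ?_, fun N hN hNt => ?_⟩
    · by_contra hg
      obtain ⟨u, hua, hub⟩ := is_two_pretransitive_iff.1 h2 hxy hab
      have hu : ∀ w : Ω, g • w = w → (u * g * u⁻¹) • u • w = u • w := fun w hw => by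
        rw [mul_smul, mul_smul, inv_smul_smul, hw]
      rcases hfix (u * g * u⁻¹) (hua ▸ hu x hx) (hub ▸ hu y hy) (by simpa using hg) (u • z) (hu z hz)
        with h | h
      · exact hxz (smul_left_cancel u (hua.trans h.symm))
      · exact hyz (smul_left_cancel u (hub.trans h.symm))
    · obtain ⟨g, hg, ha, hb⟩ := hne
      exact ⟨g, hg, a, b, hab, ha, hb⟩
    · by_contra hall
      push Not at hall
      have : N.Normal := hN
      have : Nonempty Ω := ⟨a⟩
      obtain ⟨-, q, hq, hexp⟩ := S0054.result h2 N hNt hall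
      have hc : Nat.card N = p ^ 2 + 1 := by
        rw [← (stabilizer N a).index_mul_card, index_stabilizer_of_transitive, hall a,
          Subgroup.card_bot, mul_one, Nat.card_eq_fintype_card, hn]
      have : Fact q.Prime := ⟨hq⟩
      have hpg : IsPGroup q N := fun x => ⟨1, Subtype.ext (by simpa using hexp x x.2)⟩
      obtain ⟨k, hk⟩ := hpg.exists_card_eq
      rw [hc] at hk
      have hodd : p % 2 = 1 := Nat.odd_iff.1 (hp.odd_of_ne_two hp2)
      have h4 : (p ^ 2 + 1) % 4 = 2 := by
        have : p % 4 = 1 ∨ p % 4 = 3 := by omega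
        rcases this with h | h <;> simp [Nat.add_mod, Nat.pow_mod, h]
      have hq2 : q = 2 := by
        have h22 : 2 ∣ q ^ k := by rw [← hk]; omega
        exact ((Nat.prime_dvd_prime_iff_eq Nat.prime_two hq).1 (Nat.prime_two.dvd_of_dvd_pow h22)).symm
      subst hq2
      rcases k with _ | _ | k
      · rw [pow_zero] at hk
        have : 0 < p ^ 2 := pow_pos hp.pos 2
        omega
      · rw [pow_one] at hk
        nlinarith
      · have : 4 ∣ 2 ^ (k + 1 + 1) := ⟨2 ^ k, by ring⟩
        omega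
  have h := Zassenhaus.abelian_bound hZ hab P hPa (by rw [hPc, hn]) hPfix hPab
  rw [hn] at h
  have h9 : 3 * p ≤ p ^ 2 := by nlinarith
  omega

theorem sign_of_fixed [DecidableEq Ω] {t : G} (ht : orderOf t = 2) :
    Equiv.Perm.sign (MulAction.toPermHom G Ω t) =
      (-1) ^ ((Fintype.card Ω - (fixedBy Ω t).ncard) / 2) := by
  classical
  let π := MulAction.toPermHom G Ω
  have ho : orderOf (π t) = 2 := by
    rw [orderOf_injective π MulAction.toPerm_injective t, ht]
  obtain ⟨j, hj⟩ := Equiv.Perm.cycleType_prime_order (σ := π t) (by rw [ho]; exact Nat.prime_two)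
  have hsum := Equiv.Perm.sum_cycleType (π t)
  rw [ho] at hj
  rw [hj, Multiset.sum_replicate, smul_eq_mul] at hsum
  have hsupp : (π t).support = (Finset.univ.filter fun c : Ω => t • c = c)ᶜ := by
    ext c
    simp [π]
  have hfix : (fixedBy Ω t).ncard = (Finset.univ.filter fun c : Ω => t • c = c).card := by
    rw [← Set.ncard_coe_finset]
    congr 1
    ext c
    simp
  rw [hsupp, Finset.card_compl, ← hfix] at hsum
  change Equiv.Perm.sign (π t) = _
  rw [Equiv.Perm.sign_of_cycleType, hj, Multiset.sum_replicate, Multiset.card_replicate, smul_eq_mul,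
    ← hsum, show (j + 1) * 2 + (j + 1) = 2 * (j + 1) + (j + 1) by ring, pow_add, pow_mul]
  simp

theorem even_fixed {t : G} (ht : orderOf t = 2) : Even (Fintype.card Ω - (fixedBy Ω t).ncard) := by
  classical
  let π := MulAction.toPermHom G Ω
  have ho : orderOf (π t) = 2 := by
    rw [orderOf_injective π MulAction.toPerm_injective t, ht]
  obtain ⟨j, hj⟩ := Equiv.Perm.cycleType_prime_order (σ := π t) (by rw [ho]; exact Nat.prime_two)
  have hsum := Equiv.Perm.sum_cycleType (π t)
  rw [ho] at hj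
  rw [hj, Multiset.sum_replicate, smul_eq_mul] at hsum
  have hsupp : (π t).support = (Finset.univ.filter fun c : Ω => t • c = c)ᶜ := by
    ext c
    simp [π]
  have hfix : (fixedBy Ω t).ncard = (Finset.univ.filter fun c : Ω => t • c = c).card := by
    rw [← Set.ncard_coe_finset]
    congr 1
    ext c
    simp
  rw [hsupp, Finset.card_compl, ← hfix] at hsum
  rw [← hsum]
  exact ⟨j + 1, by ring⟩

theorem two_point_trivial (hp : p.Prime) (hp2 : p ≠ 2) (hn : Fintype.card Ω = p ^ 2 + 1)
    (h2 : IsMultiplyPretransitive G Ω 2) {a b : Ω} (hab : a ≠ b)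
    (hGa : Nat.card ↥(stabilizer G a) = p ^ 2)
    (hfix : ∀ g : G, g • a = a → g • b = b → g = 1) : False := by
  classical
  have : IsPreprimitive G Ω := isPreprimitive_of_is_two_pretransitive h2
  have hG : Nat.card G = (p ^ 2 + 1) * p ^ 2 := by
    rw [← (stabilizer G a).index_mul_card, index_stabilizer_of_transitive, hGa,
      Nat.card_eq_fintype_card, hn]
  have hodd : Odd (p ^ 2) := (hp.odd_of_ne_two hp2).pow
  have : Fact (Nat.Prime 2) := ⟨Nat.prime_two⟩
  obtain ⟨t, ht⟩ := exists_prime_orderOf_dvd_card' (G := G) 2 (hG ▸ Dvd.dvd.mul_right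
    (even_iff_two_dvd.1 (by simpa [Nat.even_add_one] using hodd)) _)
  have hle : (fixedBy Ω t).ncard ≤ 1 := by
    by_contra h
    obtain ⟨x, y, hx, hy, hxy⟩ := (Set.one_lt_ncard_iff (Set.toFinite _)).1 (not_le.1 h)
    obtain ⟨u, hua, hub⟩ := is_two_pretransitive_iff.1 h2 hxy hab
    have h1 := hfix (u * t * u⁻¹) (by rw [← hua, mul_smul, mul_smul, inv_smul_smul, show t • x = x from hx])
      (by rw [← hub, mul_smul, mul_smul, inv_smul_smul, show t • y = y from hy])
    rw [conj_eq_one_iff] at h1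
    rw [h1, orderOf_one] at ht
    omega
  have hev := even_fixed (Ω := Ω) ht
  rw [hn] at hev
  obtain ⟨m, hm⟩ := hev
  obtain ⟨r, hr⟩ := hodd
  have hp24 : p ^ 2 % 4 = 1 := by
    have h := Nat.odd_iff.1 (hp.odd_of_ne_two hp2)
    have : p % 4 = 1 ∨ p % 4 = 3 := by omega
    rcases this with h | h <;> simp [Nat.pow_mod, h]
  have hsign : Equiv.Perm.sign (MulAction.toPermHom G Ω t) = -1 := by
    rw [sign_of_fixed ht, hn]
    exact Odd.neg_one_pow ⟨((p ^ 2 + 1 - (fixedBy Ω t).ncard) / 2) / 2, by omega⟩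
  let f : G →* ℤˣ := Equiv.Perm.sign.comp (MulAction.toPermHom G Ω)
  have hker : stabilizer G a ≤ f.ker := fun u hu => by
    have h1 : orderOf u ∣ p ^ 2 := hGa ▸ Subgroup.orderOf_dvd_natCard _ hu
    have h2' : f u ^ (p ^ 2) = 1 := by rw [← map_pow, orderOf_dvd_iff_pow_eq_one.1 h1, map_one]
    rw [MonoidHom.mem_ker]
    rcases Int.units_eq_one_or (f u) with h | h
    · exact h
    · rw [h, Odd.neg_one_pow ⟨r, hr⟩] at h2'
      exact absurd h2' (by decide)
  have hne : f.ker ≠ ⊥ := fun h => by
    have h1 := Subgroup.card_le_of_le hker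
    rw [h, Subgroup.card_bot, hGa] at h1
    have := hp.two_le
    nlinarith
  have : IsPretransitive f.ker Ω := Perm.isPretransitive_of_normal_ne_bot hne
  have hcard : Nat.card G ≤ Nat.card f.ker := by
    rw [hG, ← (stabilizer f.ker a).index_mul_card, index_stabilizer_of_transitive,
      Nat.card_eq_fintype_card (α := Ω), hn, ← hGa]
    refine Nat.mul_le_mul_left _ (Nat.card_le_card_of_injective
      (fun u => (⟨⟨u, hker u.2⟩, (u.2 : (u : G) • a = a)⟩ : stabilizer f.ker a)) fun u v h => ?_)
    exact Subtype.ext (congrArg (fun z : stabilizer f.ker a => ((z : f.ker) : G)) h)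
  have htop : f.ker = ⊤ := Subgroup.eq_top_of_le_card _ hcard
  have h1 : f t = 1 := MonoidHom.mem_ker.1 (htop ▸ Subgroup.mem_top t)
  exact absurd (h1.symm.trans hsign) (by decide)

end Cfsg.Agent.SqPlusOne
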