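/-
Transitive groups of degree `p²` with blocks of size `p`.

* `kern` : the kernel of the action on the translates of the block
* `sylow_inf_stab` : a Sylow `p`-subgroup meets the block stabiliser in the kernel
* `fixedPoints_sylow_stab` : a non-trivial Sylow `p`-subgroup of a point stabiliser fixes exactly the block
* `Regular` : consequences of a point stabiliser of order prime to `p`
-/
import Cfsg.Agent.Lib.Perm.PrimeSylow

set_option autoImplicit false
set_option linter.unusedSectionVars false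

namespace Cfsg.Agent.SqPlusOne

open MulAction Pointwise

variable {H Y : Type*} [Group H] [MulAction H Y] [Finite H] [Finite Y] [IsPretransitive H Y]
  [FaithfulSMul H Y] {p : ℕ} [Fact p.Prime] {B : Set Y} {b : Y}

/-- A block of size `p` containing `b`, in degree `p²`. -/
structure Sys (H : Type*) {Y : Type*} [Group H] [MulAction H Y] (p : ℕ) (B : Set Y) (b : Y) :
    Prop where
  card : Nat.card Y = p ^ 2
  block : IsBlock H B
  ncard : B.ncard = p
  mem : b ∈ B

/-- The kernel of the action on the translates of `B`. -/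
def kern (H : Type*) {Y : Type*} [Group H] [MulAction H Y] (B : Set Y) : Subgroup H :=
  (stabilizer H B).normalCore

instance : (kern H B).Normal := Subgroup.normalCore_normal _

theorem smul_block_of_mem_kern {k : H} (hk : k ∈ kern H B) (g : H) : k • (g • B) = g • B := by
  have h1 : g⁻¹ * k * g⁻¹⁻¹ ∈ stabilizer H B := hk g⁻¹
  rw [mem_stabilizer_iff, inv_inv, mul_smul, mul_smul] at h1
  exact inv_smul_eq_iff.1 h1

theorem mem_kern_iff {k : H} : k ∈ kern H B ↔ ∀ g : H, k • (g • B) = g • B := by
  refine ⟨smul_block_of_mem_kern, fun h g => ?_⟩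
  show g * k * g⁻¹ ∈ stabilizer H B
  rw [mem_stabilizer_iff, mul_smul, mul_smul, h, smul_inv_smul]

namespace Sys

variable (S : Sys H p B b)
include S

theorem ne : B.Nonempty := ⟨b, S.mem⟩

theorem smul_eq_of_mem {g g' : H} {y : Y} (h : y ∈ g • B) (h' : y ∈ g' • B) : g • B = g' • B := by
  rcases isBlock_iff_smul_eq_smul_or_disjoint.1 S.block g g' with he | hd
  · exact he
  · exact absurd h' (Set.disjoint_left.1 hd h)

theorem smul_eq_self {g : H} {y : Y} (h : y ∈ g • B) (h' : y ∈ B) : g • B = B := by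
  rw [← one_smul H B] at h'
  simpa using S.smul_eq_of_mem h h'

theorem stab_le : stabilizer H b ≤ stabilizer H B := S.block.stabilizer_le S.mem

theorem exists_mem_smul (y : Y) : ∃ g : H, g • b = y ∧ y ∈ g • B :=
  (exists_smul_eq H b y).elim fun g hg => ⟨g, hg, hg ▸ Set.smul_mem_smul_set S.mem⟩

theorem smul_mem_smul_of_mem_kern {k g : H} (hk : k ∈ kern H B) {y : Y} (hy : y ∈ g • B) :
    k • y ∈ g • B := by
  rw [← smul_block_of_mem_kern hk g]
  exact Set.smul_mem_smul_set hy

theorem smul_mem_of_mem_kern {k : H} (hk : k ∈ kern H B) {y : Y} (hy : y ∈ B) : k • y ∈ B := by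
  have := S.smul_mem_smul_of_mem_kern hk (g := 1) (by rwa [one_smul])
  rwa [one_smul] at this

theorem card_eq : Nat.card H = p ^ 2 * Nat.card (stabilizer H b) := by
  rw [← (stabilizer H b).index_mul_card, index_stabilizer_of_transitive, S.card]

theorem sylow_transitive (P : Sylow p H) : IsPretransitive (P : Subgroup H) Y :=
  Perm.sylow_isPretransitive_of_card_prime_pow (Ω := Y) (f := 2) S.card P

theorem card_sylow (P : Sylow p H) :
    Nat.card (P : Subgroup H) = p ^ 2 * Nat.card ↥(stabilizer H b ⊓ (P : Subgroup H)) := by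
  have := S.sylow_transitive P
  rw [← (stabilizer (P : Subgroup H) b).index_mul_card, index_stabilizer_of_transitive, S.card]
  congr 1
  refine Nat.card_congr
    { toFun := fun x => ⟨(x : H), (by exact x.2 : ((x : (P : Subgroup H)) : H) • b = b),
        (x : (P : Subgroup H)).2⟩
      invFun := fun x => ⟨⟨(x : H), x.2.2⟩, (x.2.1 : (x : H) • b = b)⟩
      left_inv := fun x => rfl
      right_inv := fun x => rfl }

theorem card_inf_stab (P : Sylow p H) :
    Nat.card ↥(stabilizer H b ⊓ (P : Subgroup H)) =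
      p ^ (Nat.card (stabilizer H b)).factorization p := by
  have hp := (Fact.out : p.Prime)
  have h := S.card_sylow P
  rw [P.card_eq_multiplicity, S.card_eq, Nat.factorization_mul (pow_ne_zero _ hp.ne_zero)
    Nat.card_pos.ne', Finsupp.add_apply, hp.factorization_pow, Finsupp.single_eq_same, pow_add] at h
  exact (Nat.eq_of_mul_eq_mul_left (pow_pos hp.pos 2) h).symm

theorem sylow_inf_stab (P : Sylow p H) :
    (P : Subgroup H) ⊓ stabilizer H B = (P : Subgroup H) ⊓ kern H B ∧
      Nat.card ↥((P : Subgroup H) ⊓ kern H B) * p = Nat.card (P : Subgroup H) := by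
  have hp := (Fact.out : p.Prime)
  have ht := S.sylow_transitive P
  have hB : IsBlock (P : Subgroup H) B := S.block.subgroup
  have hidx : (stabilizer (P : Subgroup H) B).index = p := by
    have h := hB.ncard_block_mul_ncard_orbit_eq S.ne
    rw [S.ncard, S.card, pow_two] at h
    rw [index_stabilizer]
    exact Nat.eq_of_mul_eq_mul_left hp.pos h
  have hn : (stabilizer (P : Subgroup H) B).Normal := by
    obtain ⟨n, hn⟩ := IsPGroup.iff_card.mp P.2
    refine Subgroup.normal_of_index_eq_minFac_card ?_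
    rw [hidx, hn, hp.pow_minFac]
    rintro rfl
    have := Subgroup.index_dvd_card (stabilizer (P : Subgroup H) B)
    rw [hn, hidx, pow_zero, Nat.dvd_one] at this
    exact hp.ne_one this
  have heq : (P : Subgroup H) ⊓ stabilizer H B = (P : Subgroup H) ⊓ kern H B := by
    refine le_antisymm (fun x hx => ⟨hx.1, mem_kern_iff.2 fun g => ?_⟩)
      (inf_le_inf_left _ (Subgroup.normalCore_le _))
    obtain ⟨u, hu⟩ := exists_smul_eq (P : Subgroup H) b (g • b)
    have hug : (u : H) • B = g • B :=
      S.smul_eq_of_mem (hu ▸ Set.smul_mem_smul_set S.mem) (Set.smul_mem_smul_set S.mem)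
    have h1 : u⁻¹ * ⟨x, hx.1⟩ * u⁻¹⁻¹ ∈ stabilizer (P : Subgroup H) B := hn.conj_mem ⟨x, hx.1⟩ hx.2 u⁻¹
    rw [mem_stabilizer_iff, inv_inv, mul_smul, mul_smul, inv_smul_eq_iff] at h1
    rw [← hug]
    exact h1
  refine ⟨heq, ?_⟩
  rw [← heq, ← Subgroup.index_mul_card (stabilizer (P : Subgroup H) B), hidx, mul_comm]
  congr 1
  exact Nat.card_congr
    { toFun := fun x => ⟨⟨(x : H), x.2.1⟩, (x.2.2 : (x : H) • B = B)⟩
      invFun := fun x => ⟨(x : H), (x : (P : Subgroup H)).2,
        (by exact x.2 : ((x : (P : Subgroup H)) : H) • B = B)⟩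
      left_inv := fun x => rfl
      right_inv := fun x => rfl }

theorem fixedPoints_sylow_stab (P : Sylow p H) (h : stabilizer H b ⊓ (P : Subgroup H) ≠ ⊥) :
    fixedPoints ↥(stabilizer H b ⊓ (P : Subgroup H)) Y = B := by
  have hp := (Fact.out : p.Prime)
  obtain ⟨heq, hE⟩ := S.sylow_inf_stab P
  set Q := stabilizer H b ⊓ (P : Subgroup H) with hQ
  set E := (P : Subgroup H) ⊓ kern H B with hEdef
  have hQE : Q ≤ E := heq ▸ fun x hx => ⟨hx.2, S.stab_le hx.1⟩
  have hcard : Nat.card E = p * Nat.card Q := by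
    have := S.card_sylow P
    rw [← hE, pow_two, mul_assoc, mul_comm (Nat.card E) p] at this
    exact Nat.eq_of_mul_eq_mul_left hp.pos this
  have hidx : (Q.subgroupOf E).index = p := by
    have := (Q.subgroupOf E).index_mul_card
    rw [Nat.card_congr (Subgroup.subgroupOfEquivOfLe hQE).toEquiv, hcard] at this
    exact Nat.eq_of_mul_eq_mul_right Nat.card_pos this
  have hQn : (Q.subgroupOf E).Normal := by
    obtain ⟨n, hn⟩ := IsPGroup.iff_card.mp (P.2.to_le (inf_le_left : E ≤ P))
    refine Subgroup.normal_of_index_eq_minFac_card ?_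
    rw [hidx, hn, hp.pow_minFac]
    rintro rfl
    rw [hn, pow_zero] at hcard
    have := Nat.eq_one_of_mul_eq_one_right hcard.symm
    exact hp.ne_one this
  have horb : orbit E b = B := by
    refine Set.eq_of_subset_of_ncard_le ?_ ?_ (Set.toFinite B)
    · rintro y ⟨e, rfl⟩
      exact S.smul_mem_of_mem_kern e.2.2 S.mem
    · rw [S.ncard, ← index_stabilizer, ← hidx]
      exact le_of_eq (congrArg Subgroup.index (SetLike.ext fun (e : E) =>
        (⟨fun he => (Subgroup.mem_subgroupOf.1 he).1,
          fun he => Subgroup.mem_subgroupOf.2 ⟨(he : (e : H) • b = b), e.2.1⟩⟩ :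
          e ∈ Q.subgroupOf E ↔ e ∈ stabilizer E b)))
  have hfix : ∀ y ∈ B, ∀ q : Q, q • y = y := by
    intro y hy q
    rw [← horb] at hy
    obtain ⟨e, rfl⟩ := hy
    have h1 := hQn.conj_mem ⟨q, hQE q.2⟩ (by simp [Subgroup.mem_subgroupOf]) e⁻¹
    have h2 : ((e : H)⁻¹ * q * e) • b = b := by
      have : (e : H)⁻¹ * q * e ∈ Q := by simpa [Subgroup.mem_subgroupOf] using h1
      exact this.1
    rw [mul_smul, mul_smul, inv_smul_eq_iff] at h2
    exact h2
  refine Set.Subset.antisymm (fun y hy => ?_) fun y hy => hfix y hy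
  by_contra hyB
  have := S.sylow_transitive P
  obtain ⟨x, hx⟩ := exists_smul_eq (P : Subgroup H) b y
  have hxE : (x : H) ∉ E := fun hxE => hyB (hx ▸ S.smul_mem_of_mem_kern hxE.2 S.mem)
  -- `x` normalises `Q`
  have hxQ : ∀ q ∈ Q, (x : H)⁻¹ * q * x ∈ Q := fun q hq => by
    refine ⟨?_, Subgroup.mul_mem _ (Subgroup.mul_mem _ (inv_mem x.2) hq.2) x.2⟩
    change ((x : H)⁻¹ * q * x) • b = b
    rw [mul_smul, mul_smul]
    change (x : H)⁻¹ • q • (x • b) = b
    rw [hx, show q • y = y from hy ⟨q, hq⟩, ← hx]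
    exact inv_smul_smul _ _
  let N := Subgroup.normalizer ((Q.subgroupOf P : Subgroup ↥(P : Subgroup H)) : Set ↥(P : Subgroup H))
  have hxN : x⁻¹ ∈ N := by
    refine Subgroup.mem_normalizer_fintype fun q hq => ?_
    have := hxQ q (Subgroup.mem_subgroupOf.1 hq)
    simpa [Subgroup.mem_subgroupOf] using this
  have hEN : E.subgroupOf P ≤ N := fun e he => by
    refine Subgroup.mem_normalizer_fintype fun q hq => ?_
    have h1 := hQn.conj_mem ⟨q, hQE (Subgroup.mem_subgroupOf.1 hq)⟩
      (by simpa [Subgroup.mem_subgroupOf] using Subgroup.mem_subgroupOf.1 hq) ⟨e, Subgroup.mem_subgroupOf.1 he⟩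
    simpa [Subgroup.mem_subgroupOf] using h1
  have hEi : (E.subgroupOf P).index = p := by
    have := (E.subgroupOf P).index_mul_card
    rw [Nat.card_congr (Subgroup.subgroupOfEquivOfLe (inf_le_left : E ≤ P)).toEquiv, ← hE,
      mul_comm (Nat.card E) p] at this
    exact Nat.eq_of_mul_eq_mul_right Nat.card_pos this
  have hN : N = ⊤ := by
    rcases (Nat.dvd_prime hp).1 (hEi ▸ Subgroup.index_dvd_of_le hEN) with h1 | h1
    · exact Subgroup.index_eq_one.1 h1
    · have heq' := Subgroup.eq_of_le_of_card_ge hEN (le_of_eq (by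
        have a1 := N.index_mul_card
        have a2 := (E.subgroupOf P).index_mul_card
        rw [h1] at a1; rw [hEi] at a2
        exact Nat.eq_of_mul_eq_mul_left hp.pos (a1.trans a2.symm)))
      have h2 := inv_mem (heq' ▸ hxN : x⁻¹ ∈ E.subgroupOf P)
      rw [inv_inv] at h2
      exact absurd (Subgroup.mem_subgroupOf.1 h2) hxE
  refine h (Subgroup.eq_bot_iff_forall _ |>.2 fun q hq => ?_)
  apply FaithfulSMul.eq_of_smul_eq_smul (α := Y)
  intro z
  obtain ⟨u, rfl⟩ := exists_smul_eq (P : Subgroup H) b z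
  have hu : u⁻¹ ∈ N := hN ▸ Subgroup.mem_top _
  have h1 := (Subgroup.mem_normalizer_iff.1 hu ⟨q, hq.2⟩).1 (Subgroup.mem_subgroupOf.2 hq)
  have h2 : ((u : H)⁻¹ * q * u) • b = b := by
    have := (Subgroup.mem_subgroupOf.1 h1).1
    simpa [mem_stabilizer_iff] using this
  rw [mul_smul, mul_smul, inv_smul_eq_iff] at h2
  rw [one_smul]
  exact h2

end Sys

end Cfsg.Agent.SqPlusOne
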