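/-
Subsets of `ZMod p` whose `p`-th power in the group ring is concentrated at one point.

* `coeff_eq_of_sum_eq_zero` : the only rational relations between `p`-th roots of unity
* `card_eq_one_or_pred` : such a subset is a point or the complement of a point
-/
import Mathlib

set_option autoImplicit false

namespace Cfsg.Agent.SqPlusOne

open Finset Polynomial

variable {p : ℕ} [hp : Fact p.Prime]

theorem pow_val_add {M : Type*} [Monoid M] {ζ : M} (h : ζ ^ p = 1) (a b : ZMod p) :
    ζ ^ (a + b).val = ζ ^ a.val * ζ ^ b.val := by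
  rw [ZMod.val_add, ← pow_eq_pow_mod _ h, pow_add]

theorem coeff_eq_of_sum_eq_zero {ζ : ℂ} (hζ : IsPrimitiveRoot ζ p) (q : ZMod p → ℤ)
    (h : ∑ i, (q i : ℂ) * ζ ^ i.val = 0) (i : ZMod p) : q i = q 0 := by
  let Q : ℤ[X] := ∑ i : ZMod p, monomial i.val (q i)
  have hco : ∀ i : ZMod p, Q.coeff i.val = q i := fun i => by
    simp only [Q, finsetSum_coeff, coeff_monomial]
    rw [Finset.sum_eq_single i (fun j _ hj => if_neg fun e => hj (ZMod.val_injective p e))
      (fun hn => absurd (mem_univ i) hn), if_pos rfl]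
  have hQ : aeval ζ Q = 0 := by
    simp only [Q, map_sum, aeval_monomial]
    simpa using h
  have hdvd : cyclotomic p ℤ ∣ Q := by
    rw [cyclotomic_eq_minpoly hζ hp.out.pos]
    exact minpoly.isIntegrallyClosed_dvd (hζ.isIntegral hp.out.pos) hQ
  obtain ⟨R, hR⟩ := hdvd
  have hdeg : Q.natDegree ≤ p - 1 :=
    natDegree_sum_le_of_forall_le _ _ fun i _ =>
      (natDegree_monomial_le _).trans (by have := ZMod.val_lt i; omega)
  have hRdeg : R.natDegree = 0 := by
    rcases eq_or_ne R 0 with rfl | hR0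
    · simp
    · rw [hR, natDegree_mul (cyclotomic_ne_zero p ℤ) hR0, natDegree_cyclotomic,
        Nat.totient_prime hp.out] at hdeg
      omega
  rw [eq_C_of_natDegree_eq_zero hRdeg, cyclotomic_prime, Finset.sum_mul] at hR
  have hc : ∀ i : ZMod p, Q.coeff i.val = R.coeff 0 := fun i => by
    have hg : ∀ j : ℕ, ((X : ℤ[X]) ^ j * C (R.coeff 0)).coeff i.val =
        if i.val = j then R.coeff 0 else 0 := fun j => by
      rw [coeff_mul_C, coeff_X_pow]; split <;> simp
    rw [hR, finsetSum_coeff, Finset.sum_congr rfl fun j _ => hg j,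
      Finset.sum_ite_eq, if_pos (mem_range.2 (ZMod.val_lt i))]
  rw [← hco i, ← hco 0, hc, hc]

theorem eq_univ_of_periodic {D : Finset (ZMod p)} {d : ZMod p} (hd : d ≠ 0)
    (hD : ∀ j, j ∈ D ↔ j + d ∈ D) (hne : D.Nonempty) : D = univ := by
  obtain ⟨j, hj⟩ := hne
  have hn : ∀ n : ℕ, j + n * d ∈ D := fun n => by
    induction n with
    | zero => simpa using hj
    | succ n ih =>
      have := (hD _).1 ih
      convert this using 1
      push_cast; ring
  refine eq_univ_of_forall fun i => ?_
  have := hn ((i - j) / d).val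
  rw [ZMod.natCast_val, ZMod.cast_id, div_mul_cancel₀ _ hd] at this
  simpa using this

theorem eq_zero_of_periodic {D : Finset (ZMod p)} (h0 : D.Nonempty) (hk : D.card < p) {d : ZMod p}
    (hD : ∀ j, j ∈ D ↔ j + d ∈ D) : d = 0 := by
  by_contra hd
  rw [eq_univ_of_periodic hd hD h0, card_univ, ZMod.card] at hk
  exact lt_irrefl _ hk

/-- The hypothesis says that in every ring with an additive character `χ` the `p`-th power of
`∑_{i ∈ D} χ i` is `U χ e + V ∑ χ i`. -/
theorem card_eq_one_or_pred (hp2 : p ≠ 2) (D : Finset (ZMod p)) (h0 : D.Nonempty) (hk : D.card < p)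
    (e : ZMod p) (U V : ℤ)
    (hpow : ∀ (R : Type) [CommRing R] (χ : ZMod p → R), χ 0 = 1 → (∀ i j, χ (i + j) = χ i * χ j) →
      (∑ i ∈ D, χ i) ^ p = (U : R) * χ e + (V : R) * ∑ i, χ i) :
    D.card = 1 ∨ D.card = p - 1 := by
  classical
  -- the exceptional point is `0`
  have he : e = 0 := by
    by_contra he
    let χ : ZMod p → AddMonoidAlgebra (ZMod p) (ZMod p) := fun i => AddMonoidAlgebra.single i 1
    have h := hpow (AddMonoidAlgebra (ZMod p) (ZMod p)) χ rfl fun i j => by
      simp [χ, AddMonoidAlgebra.single_mul_single]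
    have : CharP (AddMonoidAlgebra (ZMod p) (ZMod p)) p :=
      charP_of_injective_ringHom (f := (AddMonoidAlgebra.singleZeroRingHom : ZMod p →+* AddMonoidAlgebra (ZMod p) (ZMod p)))
        (fun a b h => by simpa using congrArg (fun z : AddMonoidAlgebra (ZMod p) (ZMod p) => z.coeff 0) h) p
    have : ExpChar (AddMonoidAlgebra (ZMod p) (ZMod p)) p := ExpChar.prime hp.out
    rw [sum_pow_char p] at h
    have hl : ∑ i ∈ D, χ i ^ p = (D.card : AddMonoidAlgebra (ZMod p) (ZMod p)) * χ 0 := by
      rw [Finset.sum_congr rfl fun i _ => show χ i ^ p = χ 0 by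
        simp [χ, AddMonoidAlgebra.single_pow, nsmul_eq_mul]]
      simp
    rw [hl] at h
    have hco : ∀ j : ZMod p,
        (if j = 0 then (D.card : ZMod p) else 0) = (if j = e then (U : ZMod p) else 0) + (V : ZMod p) := by
      intro j
      have := congrArg (fun z : AddMonoidAlgebra (ZMod p) (ZMod p) => z.coeff j) h
      simpa [χ, AddMonoidAlgebra.natCast_def, AddMonoidAlgebra.intCast_def,
        AddMonoidAlgebra.single_mul_single, Finset.mul_sum, Finsupp.single_apply, eq_comm] using this
    obtain ⟨j, hj⟩ : ∃ j : ZMod p, j ∉ ({0, e} : Finset (ZMod p)) := by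
      by_contra hc
      push Not at hc
      have hu : ({0, e} : Finset (ZMod p)) = univ := eq_univ_of_forall hc
      have h2 := (Finset.card_le_two (a := (0 : ZMod p)) (b := e))
      rw [hu, card_univ, ZMod.card] at h2
      have := hp.out.two_le
      omega
    simp only [mem_insert, mem_singleton, not_or] at hj
    have hV : (V : ZMod p) = 0 := by simpa [hj.1, hj.2] using (hco j).symm
    have h1 := hco 0
    rw [if_pos rfl, if_neg (Ne.symm he), hV, zero_add, ZMod.natCast_eq_zero_iff] at h1
    exact absurd (Nat.le_of_dvd h0.card_pos h1) (by omega)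
  subst he
  obtain ⟨ζ, hζ⟩ : ∃ ζ : ℂ, IsPrimitiveRoot ζ p := ⟨_, Complex.isPrimitiveRoot_exp p hp.out.ne_zero⟩
  let f : ZMod p → ℂ := fun t => ∑ j ∈ D, ζ ^ (t * j).val
  have hind : ∀ (E : Finset (ZMod p)), ∑ j ∈ E, ζ ^ j.val =
      ∑ j, (((if j ∈ E then (1 : ℤ) else 0) : ℤ) : ℂ) * ζ ^ j.val := fun E => by
    rw [← Finset.sum_subset (subset_univ E) fun x _ hx => by rw [if_neg hx]; simp]
    exact Finset.sum_congr rfl fun x hx => by rw [if_pos hx]; simp
  have hsum : ∀ t : ZMod p, t ≠ 0 → f t ^ p = (U : ℂ) := by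
    intro t ht
    have h := hpow ℂ (fun i => ζ ^ (t * i).val) (by simp)
      (fun i j => by rw [mul_add, pow_val_add hζ.pow_eq_one])
    have h2 : ∑ i : ZMod p, ζ ^ (t * i).val = 0 := by
      rw [Fintype.sum_equiv (Equiv.mulLeft₀ t ht) (fun i => ζ ^ (t * i).val) (fun i => ζ ^ i.val)
        fun i => rfl, ← hζ.geom_sum_eq_zero hp.out.one_lt]
      exact Finset.sum_bij' (fun i _ => i.val) (fun n _ => (n : ZMod p))
        (fun i _ => mem_range.2 (ZMod.val_lt i)) (fun n _ => mem_univ _)
        (fun i _ => by simp) (fun n hn => ZMod.val_natCast_of_lt (mem_range.1 hn)) (fun i _ => rfl)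
    simpa [h2, f] using h
  have hf1 : f 1 ≠ 0 := by
    intro h
    simp only [f, one_mul] at h
    rw [hind] at h
    have hc := coeff_eq_of_sum_eq_zero hζ _ h
    obtain ⟨j, hj⟩ := h0
    have h1 : ∀ i, i ∈ D := fun i => by
      by_contra hi
      have := (hc i).trans (hc j).symm
      simp [hi, hj] at this
    rw [eq_univ_of_forall h1, card_univ, ZMod.card] at hk
    exact lt_irrefl _ hk
  -- every non-zero multiplier maps `D` to a translate
  have hmul : ∀ t : ZMod p, t ≠ 0 → ∃ c : ZMod p, ∀ j, j ∈ D ↔ t * j - c ∈ D := by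
    intro t ht
    obtain ⟨n, -, hn⟩ := hζ.eq_pow_of_pow_eq_one
      (show (f t / f 1) ^ p = 1 by
        rw [div_pow, hsum t ht, hsum 1 one_ne_zero, div_self]
        rw [← hsum 1 one_ne_zero]; exact pow_ne_zero _ hf1)
    rw [eq_div_iff hf1] at hn
    let c : ZMod p := n
    have hcn : ζ ^ c.val = ζ ^ n := by
      simp only [c]; rw [ZMod.val_natCast, ← pow_eq_pow_mod _ hζ.pow_eq_one]
    let A := D.image (t * ·)
    let E := D.image (c + ·)
    have hA : ∑ j ∈ A, ζ ^ j.val = f t := Finset.sum_image fun x _ y _ h => mul_left_cancel₀ ht h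
    have hE : ∑ j ∈ E, ζ ^ j.val = f t := by
      rw [Finset.sum_image fun x _ y _ h => add_left_cancel h, ← hn, ← hcn, Finset.mul_sum]
      exact Finset.sum_congr rfl fun j _ => by rw [pow_val_add hζ.pow_eq_one, one_mul]
    let q : ZMod p → ℤ := fun j => (if j ∈ A then 1 else 0) - (if j ∈ E then 1 else 0)
    have hq : ∑ j, (q j : ℂ) * ζ ^ j.val = 0 := by
      simp only [q, Int.cast_sub, sub_mul, Finset.sum_sub_distrib, ← hind, hA, hE, sub_self]
    have hqc := coeff_eq_of_sum_eq_zero hζ q hq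
    have hs : ∑ j, q j = 0 := by
      simp only [q, Finset.sum_sub_distrib, Finset.sum_boole, Finset.filter_univ_mem]
      rw [Finset.card_image_of_injective _ (mul_right_injective₀ ht),
        Finset.card_image_of_injective _ (add_right_injective c), sub_self]
    rw [Finset.sum_congr rfl fun j _ => hqc j, sum_const, card_univ, ZMod.card, nsmul_eq_mul,
      mul_eq_zero] at hs
    have hq0 := hs.resolve_left (by exact_mod_cast hp.out.ne_zero)
    refine ⟨c, fun j => ?_⟩
    have h1 : t * j ∈ A ↔ j ∈ D := by simp [A, ht]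
    have h2 : t * j ∈ E ↔ t * j - c ∈ D := by
      simp only [E, mem_image]
      exact ⟨fun ⟨x, hx, he⟩ => by rwa [← he, add_sub_cancel_left], fun h => ⟨_, h, by ring⟩⟩
    have h3 := hqc (t * j)
    rw [hq0] at h3
    rw [← h1, ← h2]
    simp only [q] at h3
    split_ifs at h3 with ha hb <;> simp_all
  choose! c hc using hmul
  -- the affine maps commute, so they fix a common point
  have hcomm : ∀ s t : ZMod p, s ≠ 0 → t ≠ 0 → s * c t + c s = t * c s + c t := by
    intro s t hs ht
    refine sub_eq_zero.1 (eq_zero_of_periodic h0 hk fun j => ?_)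
    obtain ⟨i, rfl⟩ : ∃ i, s * (t * i - c t) - c s = j :=
      ⟨((j + c s) / s + c t) / t, by field_simp; ring⟩
    rw [show s * (t * i - c t) - c s + (s * c t + c s - (t * c s + c t)) = t * (s * i - c s) - c t by
      ring, ← hc s hs, ← hc t ht i, hc s hs i, hc t ht (s * i - c s)]
  have h2 : (-1 : ZMod p) - 1 ≠ 0 := by
    intro h
    have h' : ((2 : ℕ) : ZMod p) = 0 := by push_cast; linear_combination -h
    rw [ZMod.natCast_eq_zero_iff] at h'
    exact hp2 ((Nat.prime_dvd_prime_iff_eq hp.out Nat.prime_two).1 h')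
  obtain ⟨z, hz⟩ : ∃ z : ZMod p, z = c (-1) / (-1 - 1) := ⟨_, rfl⟩
  have hfix : ∀ t : ZMod p, t ≠ 0 → ∀ j, j ∈ D ↔ t * (j - z) + z ∈ D := by
    intro t ht j
    rw [show t * (j - z) + z = t * j - c t by
      have := hcomm (-1) t (neg_ne_zero.2 one_ne_zero) ht
      rw [hz]
      field_simp
      linear_combination this]
    exact hc t ht j
  have hall : ∀ i ∈ D, i ≠ z → ∀ j, j ≠ z → j ∈ D := fun i hi hiz j hjz => by
    have := (hfix _ (div_ne_zero (sub_ne_zero.2 hjz) (sub_ne_zero.2 hiz)) i).1 hi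
    rwa [div_mul_cancel₀ _ (sub_ne_zero.2 hiz), sub_add_cancel] at this
  by_cases hsub : D ⊆ {z}
  · left
    have := (card_le_card hsub)
    rw [card_singleton] at this
    have := h0.card_pos
    omega
  · right
    obtain ⟨i, hi, hiz⟩ := not_subset.1 hsub
    have hle : univ.erase z ⊆ D := fun j hj => hall i hi (by simpa using hiz) j (ne_of_mem_erase hj)
    have := card_le_card hle
    rw [card_erase_of_mem (mem_univ z), card_univ, ZMod.card] at this
    omega

end Cfsg.Agent.SqPlusOne
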