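/-
Transitive groups of degree `p²` with blocks of size `p` and point stabilisers of order prime to `p`.

* `eq_bot_of_normal` : normal `p'`-subgroups are trivial
* `card_sylow'`, `sylow_comm`, `sylow_free` : Sylow subgroups are regular abelian
* `card_zed`, `mem_block_iff` : a Sylow subgroup meets the kernel in a subgroup of order `p`
* `eq_one_of_fix_block` : the kernel is faithful on each block
-/
import Cfsg.Agent.Lib.SqPlusOne.Blocks

set_option autoImplicit false
set_option linter.unusedSectionVars false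

namespace Cfsg.Agent.SqPlusOne.Sys

open MulAction Pointwise

variable {H Y : Type*} [Group H] [MulAction H Y] [Finite H] [Finite Y] [IsPretransitive H Y]
  [FaithfulSMul H Y] {p : ℕ} [Fact p.Prime] {B : Set Y} {b : Y}
  (S : Sys H p B b) (hreg : ¬ p ∣ Nat.card (stabilizer H b))

include S hreg

theorem eq_bot_of_normal (N : Subgroup H) [N.Normal] (hN : ¬ p ∣ Nat.card N) : N = ⊥ := by
  have hp := (Fact.out : p.Prime)
  rw [Subgroup.eq_bot_iff_forall]
  intro n hn
  apply FaithfulSMul.eq_of_smul_eq_smul (α := Y)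
  intro y
  have h1 : (orbit N y).ncard ∣ p ^ 2 := S.card ▸
    (IsBlock.orbit_of_normal (G := H) (N := N) y).ncard_dvd_card ⟨y, mem_orbit_self y⟩
  have h2 : (orbit N y).ncard ∣ Nat.card N := by
    rw [← index_stabilizer]; exact Subgroup.index_dvd_card _
  have h3 := Nat.eq_one_of_dvd_coprimes
    ((hp.coprime_iff_not_dvd.2 hN).pow_left 2) h1 h2
  obtain ⟨z, hz⟩ := Set.ncard_eq_one.1 h3
  have e1 : n • y ∈ orbit N y := ⟨⟨n, hn⟩, rfl⟩
  have e2 : y ∈ orbit N y := mem_orbit_self y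
  rw [hz, Set.mem_singleton_iff] at e1 e2
  rw [one_smul, e1, ← e2]

theorem stab_inf_sylow (P : Sylow p H) : stabilizer H b ⊓ (P : Subgroup H) = ⊥ := by
  rw [← Subgroup.card_eq_one, S.card_inf_stab P, Nat.factorization_eq_zero_of_not_dvd hreg, pow_zero]

theorem card_sylow' (P : Sylow p H) : Nat.card (P : Subgroup H) = p ^ 2 := by
  rw [S.card_sylow P, S.stab_inf_sylow hreg P, Subgroup.card_bot, mul_one]

theorem sylow_comm (P : Sylow p H) {u v : H} (hu : u ∈ (P : Subgroup H))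
    (hv : v ∈ (P : Subgroup H)) : u * v = v * u :=
  congrArg Subtype.val ((IsPGroup.isMulCommutative_of_card_eq_prime_sq (S.card_sylow' hreg P)).is_comm.comm
    (⟨u, hu⟩ : (P : Subgroup H)) ⟨v, hv⟩)

theorem exists_sylow_smul (P : Sylow p H) (y : Y) : ∃ u ∈ (P : Subgroup H), u • b = y := by
  have := S.sylow_transitive P
  obtain ⟨u, hu⟩ := exists_smul_eq (P : Subgroup H) b y
  exact ⟨u, u.2, hu⟩

theorem sylow_free (P : Sylow p H) {u : H} (hu : u ∈ (P : Subgroup H)) {y : Y} (h : u • y = y) :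
    u = 1 := by
  obtain ⟨v, hv, rfl⟩ := S.exists_sylow_smul hreg P y
  rw [← mul_smul, S.sylow_comm hreg P hu hv, mul_smul] at h
  exact Subgroup.mem_bot.1 (S.stab_inf_sylow hreg P ▸ ⟨smul_left_cancel v h, hu⟩)

theorem sylow_ext (P : Sylow p H) {u v : H} (hu : u ∈ (P : Subgroup H))
    (hv : v ∈ (P : Subgroup H)) (h : u • b = v • b) : u = v := by
  refine (inv_mul_eq_one.1 (S.sylow_free hreg P (y := b) (mul_mem (inv_mem hv) hu) ?_)).symm
  rw [mul_smul, h, inv_smul_smul]

theorem card_zed (P : Sylow p H) : Nat.card ↥((P : Subgroup H) ⊓ kern H B) = p := by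
  have hp := (Fact.out : p.Prime)
  have h := (S.sylow_inf_stab P).2
  rw [S.card_sylow' hreg P, pow_two] at h
  exact Nat.eq_of_mul_eq_mul_right hp.pos h

theorem mem_block_iff (P : Sylow p H) {y : Y} :
    y ∈ B ↔ ∃ z ∈ (P : Subgroup H) ⊓ kern H B, z • b = y := by
  refine ⟨fun hy => ?_, fun ⟨z, hz, h⟩ => h ▸ S.smul_mem_of_mem_kern hz.2 S.mem⟩
  obtain ⟨u, hu, rfl⟩ := S.exists_sylow_smul hreg P y
  refine ⟨u, ?_, rfl⟩
  rw [← (S.sylow_inf_stab P).1]
  exact ⟨hu, S.smul_eq_self (Set.smul_mem_smul_set S.mem) hy⟩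

theorem not_sq_dvd_kern : ¬ p ^ 2 ∣ Nat.card (kern H B) := by
  have hp := (Fact.out : p.Prime)
  intro h
  have hle : (stabilizer (kern H B) b).index ≤ p := by
    rw [index_stabilizer, ← S.ncard]
    refine Set.ncard_le_ncard ?_ (Set.toFinite B)
    rintro y ⟨k, rfl⟩
    exact S.smul_mem_of_mem_kern k.2 S.mem
  have h1 : ¬ p ∣ Nat.card (stabilizer (kern H B) b) := fun h1 => hreg <| h1.trans <|
    Subgroup.card_dvd_of_injective
      ({ toFun := fun x => ⟨(x : H), (by exact x.2 : ((x : kern H B) : H) • b = b)⟩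
         map_one' := rfl
         map_mul' := fun _ _ => rfl } : stabilizer (kern H B) b →* stabilizer H b)
      fun x y hxy => Subtype.ext (Subtype.ext (congrArg (fun z : stabilizer H b => (z : H)) hxy))
  rw [← (stabilizer (kern H B) b).index_mul_card] at h
  have h2 := ((hp.coprime_iff_not_dvd.2 h1).pow_left 2).dvd_of_dvd_mul_right h
  have h4 : (stabilizer (kern H B) b).index ≠ 0 := Subgroup.index_ne_zero_of_finite
  have h3 : p ^ 2 ≤ p := (Nat.le_of_dvd (Nat.pos_of_ne_zero h4) h2).trans hle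
  have := hp.two_le
  nlinarith

theorem eq_one_of_fix_block {k : H} (hk : k ∈ kern H B) (hfix : ∀ y ∈ B, k • y = y) : k = 1 := by
  have hp := (Fact.out : p.Prime)
  obtain ⟨P⟩ : Nonempty (Sylow p H) := inferInstance
  let N : Subgroup H := fixingSubgroup H B ⊓ kern H B
  have hk' : k ∈ N := ⟨(mem_fixingSubgroup_iff H).2 hfix, hk⟩
  have hNp : ¬ p ∣ Nat.card N := fun h => hreg (h.trans (Subgroup.card_dvd_of_le fun n hn =>
    (mem_fixingSubgroup_iff H).1 hn.1 b S.mem))
  have hNK : ∀ n ∈ N, ∀ c ∈ kern H B, c * n * c⁻¹ ∈ N := fun n hn c hc => by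
    refine ⟨(mem_fixingSubgroup_iff H).2 fun y hy => ?_,
      (inferInstance : (kern H B).Normal).conj_mem n hn.2 c⟩
    rw [mul_smul, mul_smul, (mem_fixingSubgroup_iff H).1 hn.1 _
      (S.smul_mem_of_mem_kern (inv_mem hc) hy), smul_inv_smul]
  apply FaithfulSMul.eq_of_smul_eq_smul (α := Y)
  intro y
  rw [one_smul]
  -- the kernel is transitive on the block of `y`
  obtain ⟨g, hg, hgy⟩ := S.exists_mem_smul y
  let C := orbit (kern H B) y
  have hC : Nat.card C ≤ p := by
    rw [Nat.card_coe_set_eq, ← S.ncard, ← Set.ncard_smul_set g B]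
    refine Set.ncard_le_ncard ?_ (Set.toFinite _)
    rintro z ⟨c, rfl⟩
    exact S.smul_mem_smul_of_mem_kern c.2 hgy
  have hC' : Nat.card C = p := by
    refine le_antisymm hC ?_
    rw [Nat.card_coe_set_eq, ← S.card_zed hreg P, ← Nat.card_coe_set_eq]
    refine Nat.card_le_card_of_injective (fun z => (⟨(z : H) • y, ⟨z, z.2.2⟩, rfl⟩ : C)) fun z w h => ?_
    have h' : (z : H) • y = (w : H) • y := congrArg Subtype.val h
    refine Subtype.ext (inv_mul_eq_one.1 (S.sylow_free hreg P (y := y)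
      (mul_mem (inv_mem w.2.1) z.2.1) (by rw [mul_smul, h', inv_smul_smul]))).symm
  let N' : Subgroup (kern H B) := N.subgroupOf (kern H B)
  have : N'.Normal := ⟨fun n hn c => Subgroup.mem_subgroupOf.2 <| by
    simpa using hNK n (Subgroup.mem_subgroupOf.1 hn) c c.2⟩
  have hCne : (⟨y, mem_orbit_self y⟩ : C) ∈ orbit N' (⟨y, mem_orbit_self y⟩ : C) := mem_orbit_self _
  have h1 := (IsBlock.orbit_of_normal (G := kern H B) (N := N')
    (⟨y, mem_orbit_self y⟩ : C)).ncard_dvd_card ⟨_, hCne⟩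
  rw [hC'] at h1
  have h2 : (orbit N' (⟨y, mem_orbit_self y⟩ : C)).ncard ∣ Nat.card N := by
    rw [← index_stabilizer,
      ← Nat.card_congr (Subgroup.subgroupOfEquivOfLe (inf_le_right : N ≤ kern H B)).toEquiv]
    exact Subgroup.index_dvd_card _
  have h3 := Nat.eq_one_of_dvd_coprimes (hp.coprime_iff_not_dvd.2 hNp) h1 h2
  obtain ⟨z, hz⟩ := Set.ncard_eq_one.1 h3
  have e1 : (⟨k, hk⟩ : kern H B) • (⟨y, mem_orbit_self y⟩ : C) ∈
      orbit N' (⟨y, mem_orbit_self y⟩ : C) :=
    ⟨⟨⟨k, hk⟩, Subgroup.mem_subgroupOf.2 hk'⟩, rfl⟩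
  rw [hz, Set.mem_singleton_iff] at e1 hCne
  have := congrArg Subtype.val (e1.trans hCne.symm)
  rw [orbit.coe_smul] at this
  exact this

end Cfsg.Agent.SqPlusOne.Sys
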