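/-
The fixed point set of the kernel's point stabiliser, when the kernel is two-transitive on the block.

* `orbit_card_cases` : off the block its orbits have size `1` or `p - 1`
* `kernel_cases` : the fixed set `T` and the orbits of length `p - 1` of a point stabiliser
-/
import Cfsg.Agent.Lib.SqPlusOne.Regular
import Cfsg.Agent.Lib.SqPlusOne.DiffSet

set_option autoImplicit false
set_option linter.unusedSectionVars false

namespace Cfsg.Agent.SqPlusOne.Sys

open MulAction Pointwise Finset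

variable {H Y : Type*} [Group H] [MulAction H Y] [Finite H] [Finite Y] [IsPretransitive H Y]
  [FaithfulSMul H Y] {p : ℕ} [Fact p.Prime] {B : Set Y} {b : Y}
  (S : Sys H p B b) (hreg : ¬ p ∣ Nat.card (stabilizer H b)) (P : Sylow p H) (hp2 : p ≠ 2)
  (h2 : ∀ c ∈ B, c ≠ b → ∀ c' ∈ B, c' ≠ b → ∃ k ∈ kern H B, k • b = b ∧ k • c = c')

include S hreg P hp2 h2

theorem orbit_card_cases (y : Y) (hy : y ∉ B) :
    (orbit ↥(kern H B ⊓ stabilizer H b) y).ncard = 1 ∨
      (orbit ↥(kern H B ⊓ stabilizer H b) y).ncard = p - 1 := by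
  classical
  have hp := (Fact.out : p.Prime)
  set Kb := kern H B ⊓ stabilizer H b with hKb
  set Z := (P : Subgroup H) ⊓ kern H B with hZdef
  have hZc : Nat.card Z = p := S.card_zed hreg P
  obtain ⟨x, hx, hxy⟩ := S.exists_sylow_smul hreg P y
  have hxZ : x ∉ Z := fun h => hy (hxy ▸ S.smul_mem_of_mem_kern h.2 S.mem)
  have : Nontrivial Z := Finite.one_lt_card_iff_nontrivial.1 (hZc.symm ▸ hp.one_lt)
  obtain ⟨z0, hz0⟩ := exists_ne (1 : Z)
  have hord : orderOf (z0 : H) = p := by
    rw [Subgroup.orderOf_coe]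
    exact ((Nat.dvd_prime hp).1 (hZc ▸ orderOf_dvd_natCard z0)).resolve_left
      fun h => hz0 (orderOf_eq_one_iff.1 h)
  let zi : ZMod p → H := fun i => (z0 : H) ^ i.val
  have hziZ : ∀ i, zi i ∈ Z := fun i => Subgroup.pow_mem _ z0.2 _
  have hzadd : ∀ i j, zi (i + j) = zi i * zi j := fun i j =>
    pow_val_add (hord ▸ pow_orderOf_eq_one _) i j
  have hzinj : Function.Injective zi := fun i j h => ZMod.val_injective p
    (pow_injOn_Iio_orderOf (by rw [Set.mem_Iio, hord]; exact ZMod.val_lt i)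
      (by rw [Set.mem_Iio, hord]; exact ZMod.val_lt j) h)
  have hgen : ∀ z ∈ Z, ∃ i, zi i = z := fun z hz => by
    have hf : Function.Injective (fun i => (⟨zi i, hziZ i⟩ : Z)) := fun i j h =>
      hzinj (congrArg Subtype.val h)
    obtain ⟨i, hi⟩ := (hf.bijective_of_nat_card_le (by rw [hZc, Nat.card_zmod])).2 ⟨z, hz⟩
    exact ⟨i, congrArg Subtype.val hi⟩
  have hziP : ∀ i (j : ℕ), zi i * x ^ j ∈ (P : Subgroup H) := fun i j =>
    mul_mem (hziZ i).1 (pow_mem hx j)
  -- the points of the `j`-th block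
  let pt : ℕ → ZMod p → Y := fun j i => (zi i * x ^ j) • b
  have hptinj : ∀ j, Function.Injective (pt j) := fun j i i' h =>
    hzinj (mul_right_cancel (S.sylow_ext hreg P (hziP i j) (hziP i' j) h))
  have hex : ∀ k ∈ Kb, ∀ j i, ∃ i', k • pt j i = pt j i' := by
    intro k hk j i
    have hblk : ∀ i : ZMod p, (zi i * x ^ j) • B = x ^ j • B := fun i => by
      rw [mul_smul, smul_block_of_mem_kern (hziZ i).2]
    have h1 : k • pt j i ∈ x ^ j • B := by
      refine S.smul_mem_smul_of_mem_kern hk.1 ?_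
      rw [← hblk i]
      exact Set.smul_mem_smul_set S.mem
    obtain ⟨c, hc, hc'⟩ := h1
    obtain ⟨z, hz, rfl⟩ := (S.mem_block_iff hreg P).1 hc
    obtain ⟨i', rfl⟩ := hgen z hz
    refine ⟨i', hc'.symm.trans ?_⟩
    change x ^ j • zi i' • b = _
    rw [← mul_smul, S.sylow_comm hreg P (pow_mem hx j) (hziZ i').1]
  choose π hπ using hex
  have hπbij : ∀ k (hk : k ∈ Kb) j, Function.Bijective (π k hk j) := fun k hk j =>
    Finite.injective_iff_bijective.1 fun i i' h => hptinj j (smul_left_cancel k (by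
      rw [hπ k hk j i, hπ k hk j i', h]))
  let O := orbit Kb y
  let D : Finset (ZMod p) := univ.filter fun i => pt 1 i ∈ O
  have hpt1 : pt 1 0 = y := by simp [pt, zi, hxy]
  have hD0 : D.Nonempty := ⟨0, by simp [D, O, hpt1, mem_orbit_self]⟩
  have hDO : D.card = O.ncard := by
    rw [← Set.ncard_coe_finset, ← Set.ncard_image_of_injective _ (hptinj 1)]
    congr 1
    ext v
    simp only [D, coe_filter, mem_univ, true_and, Set.mem_image, Set.mem_ofPred_eq]
    refine ⟨fun ⟨i, hi, he⟩ => he ▸ hi, fun hv => ?_⟩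
    obtain ⟨⟨k, hk⟩, rfl⟩ := hv
    refine ⟨π k hk 1 0, ?_, ?_⟩
    · rw [← hπ k hk 1 0, hpt1]; exact ⟨⟨k, hk⟩, rfl⟩
    · rw [← hπ k hk 1 0, hpt1]; rfl
  have hDlt : D.card < p := by
    refine lt_of_le_of_ne ((card_le_univ D).trans (by rw [ZMod.card])) fun h => hreg ?_
    refine Nat.dvd_trans ?_ (Subgroup.card_dvd_of_le (inf_le_right : Kb ≤ stabilizer H b))
    rw [← h, hDO, ← index_stabilizer]
    exact Subgroup.index_dvd_card _
  -- numbers of paths
  let F : ℕ → ZMod p → ℕ := fun j => Nat.rec (fun i => if i = 0 then 1 else 0)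
    (fun _ Fj i => ∑ d ∈ D, Fj (i - d)) j
  have hF0 : ∀ i, F 0 i = if i = 0 then 1 else 0 := fun i => rfl
  have hFs : ∀ j i, F (j + 1) i = ∑ d ∈ D, F j (i - d) := fun j i => rfl
  have hFinv : ∀ j k (hk : k ∈ Kb) i, F j (π k hk j i) = F j i := by
    intro j
    induction j with
    | zero =>
      intro k hk i
      have h0 : π k hk 0 0 = 0 := hptinj 0 (by
        rw [← hπ k hk 0 0]; simp only [pt, zi, ZMod.val_zero, pow_zero, mul_one, one_smul]
        exact hk.2)
      rw [hF0, hF0]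
      by_cases hi : i = 0
      · rw [hi, h0]
      · rw [if_neg hi, if_neg fun h => hi ((hπbij k hk 0).1 (h.trans h0.symm))]
    | succ j ih =>
      intro k hk i
      have hsub : ∀ k (hk : k ∈ Kb) i, (univ.filter fun i' => i - i' ∈ D).image (π k hk j) ⊆
          univ.filter fun i' => π k hk (j + 1) i - i' ∈ D := by
        intro k hk i m hm
        simp only [mem_image, mem_filter, mem_univ, true_and] at hm ⊢
        obtain ⟨i', hi', rfl⟩ := hm
        have := hk
        simp only [D, mem_filter, mem_univ, true_and] at hi' ⊢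
        obtain ⟨g, hg⟩ : ∃ g, g = zi i' * x ^ j := ⟨_, rfl⟩
        obtain ⟨g', hg'⟩ : ∃ g', g' = zi (π k hk j i') * x ^ j := ⟨_, rfl⟩
        have hdec : ∀ a c : ZMod p, zi c * x ^ (j + 1) = zi a * x ^ j * (zi (c - a) * x ^ 1) := by
          intro a c
          calc zi c * x ^ (j + 1) = zi a * (zi (c - a) * x ^ j) * x ^ 1 := by
                rw [pow_succ, pow_one, ← mul_assoc, ← mul_assoc (zi a) (zi (c - a)), ← hzadd,
                  add_sub_cancel]
            _ = zi a * (x ^ j * zi (c - a)) * x ^ 1 := by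
                rw [S.sylow_comm hreg P (hziZ (c - a)).1 (pow_mem hx j)]
            _ = _ := by group
        have e1 : g • pt 1 (i - i') = pt (j + 1) i := by
          simp only [pt, hg, ← mul_smul]; rw [← hdec]
        have e2 : g' • pt 1 (π k hk (j + 1) i - π k hk j i') = pt (j + 1) (π k hk (j + 1) i) := by
          simp only [pt, hg', ← mul_smul]; rw [← hdec]
        have hh : g'⁻¹ * k * g ∈ Kb := by
          refine ⟨?_, ?_⟩
          · have hgg : g'⁻¹ * g ∈ kern H B := by
              rw [hg, hg', mul_inv_rev, mul_assoc]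
              have := (inferInstance : (kern H B).Normal).conj_mem
                ((zi (π k hk j i'))⁻¹ * zi i') (mul_mem (inv_mem (hziZ _).2) (hziZ _).2) (x ^ j)⁻¹
              simpa [mul_assoc] using this
            have h1 : g⁻¹ * k * g ∈ kern H B := by
              simpa using (inferInstance : (kern H B).Normal).conj_mem k hk.1 g⁻¹
            have := mul_mem hgg h1
            rw [show g'⁻¹ * g * (g⁻¹ * k * g) = g'⁻¹ * k * g by group] at this
            exact this
          · change (g'⁻¹ * k * g) • b = b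
            rw [mul_smul, mul_smul, inv_smul_eq_iff]
            have := hπ k hk j i'
            simp only [pt] at this
            rw [hg, hg']; exact this
        have h3 : (g'⁻¹ * k * g) • pt 1 (i - i') ∈ O := by
          obtain ⟨⟨u, hu⟩, hu'⟩ := hi'
          exact ⟨⟨g'⁻¹ * k * g * u, mul_mem hh hu⟩, by rw [← hu']; exact mul_smul _ u y⟩
        rw [mul_smul, mul_smul, e1, hπ k hk (j + 1) i, ← e2, inv_smul_smul] at h3
        exact h3
      have hrew : ∀ c, F (j + 1) c = ∑ i' ∈ univ.filter (fun i' => c - i' ∈ D), F j i' := fun c => by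
        rw [hFs]
        refine sum_nbij' (fun d => c - d) (fun i' => c - i') ?_ ?_ ?_ ?_ ?_ <;> simp
      have hcard : ∀ c, (univ.filter fun i' => c - i' ∈ D).card = D.card := fun c => by
        refine card_nbij' (fun i' => c - i') (fun d => c - d) ?_ ?_ ?_ ?_ <;> simp [Set.MapsTo, Set.LeftInvOn]
      rw [hrew, hrew, ← eq_of_subset_of_card_le (hsub k hk i) (by
        rw [card_image_of_injective _ (hπbij k hk j).1, hcard, hcard]),
        sum_image fun a _ c _ h => (hπbij k hk j).1 h]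
      exact sum_congr rfl fun i' _ => ih k hk i'
  -- the last step returns to the block
  obtain ⟨e, he⟩ : ∃ e, zi e = x ^ p := by
    refine hgen _ ⟨pow_mem hx p, ?_⟩
    have hidx : ((kern H B).subgroupOf (P : Subgroup H)).index = p := by
      have h := ((kern H B).subgroupOf (P : Subgroup H)).index_mul_card
      rw [← Subgroup.inf_subgroupOf_left,
        Nat.card_congr (Subgroup.subgroupOfEquivOfLe (inf_le_left : (P : Subgroup H) ⊓ kern H B ≤ P)).toEquiv,
        ← hZdef, hZc, S.card_sylow' hreg P, pow_two] at h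
      rw [← Subgroup.inf_subgroupOf_left]
      exact Nat.eq_of_mul_eq_mul_right hp.pos h
    have := ((kern H B).subgroupOf (P : Subgroup H)).pow_index_mem ⟨x, hx⟩
    rw [hidx] at this
    exact Subgroup.mem_subgroupOf.1 this
  have hptp : ∀ i, pt p i = zi (i + e) • b := fun i => by simp only [pt]; rw [← he, hzadd]
  obtain ⟨i₁, hi₁⟩ : ∃ i₁ : ZMod p, i₁ ≠ -e := exists_ne _
  have hB : ∀ i, pt p i ∈ B := fun i => by
    rw [hptp]; exact S.smul_mem_of_mem_kern (hziZ _).2 S.mem
  have hpb : ∀ i, i ≠ -e → pt p i ≠ b := fun i hi h => hi <| eq_neg_of_add_eq_zero_left <| hzinj (by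
    rw [hptp] at h
    rw [S.sylow_free hreg P (hziZ _).1 h]
    simp [zi])
  have hconst : ∀ i, i ≠ -e → F p i = F p i₁ := by
    intro i hi
    obtain ⟨k, hk, hkb, hkc⟩ := h2 _ (hB i₁) (hpb _ hi₁) _ (hB i) (hpb _ hi)
    have hk' : k ∈ Kb := ⟨hk, hkb⟩
    rw [← hFinv p k hk' i₁]
    congr 1
    exact hptinj p (by rw [← hπ k hk' p i₁, hkc])
  have hpow : ∀ (R : Type) [CommRing R] (χ : ZMod p → R), χ 0 = 1 →
      (∀ i j, χ (i + j) = χ i * χ j) → ∀ j, (∑ i ∈ D, χ i) ^ j = ∑ i, (Nat.cast (F j i) : R) * χ i := by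
    intro R _ χ h0 hadd j
    induction j with
    | zero =>
      rw [pow_zero, Finset.sum_eq_single 0 (fun i _ hi => by rw [hF0, if_neg hi]; simp) (by simp)]
      simp [hF0, h0]
    | succ j ih =>
      rw [pow_succ, ih, Finset.mul_sum]
      simp only [hFs, Nat.cast_sum, Finset.sum_mul]
      rw [Finset.sum_comm]
      conv_rhs => rw [Finset.sum_comm]
      rw [Finset.sum_comm (s := univ) (t := D)]
      refine sum_congr rfl fun d _ => ?_
      rw [← Equiv.sum_comp (Equiv.subRight d) (fun i => (Nat.cast (F j i) : R) * χ i * χ d)]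
      exact sum_congr rfl fun i _ => by
        rw [Equiv.subRight_apply, mul_assoc, ← hadd, sub_add_cancel]
  rcases card_eq_one_or_pred hp2 D hD0 hDlt (-e)
      ((Nat.cast (F p (-e)) : ℤ) - (Nat.cast (F p i₁) : ℤ)) (Nat.cast (F p i₁) : ℤ)
    (fun R _ χ h0 hadd => by
      rw [hpow R χ h0 hadd p, Finset.mul_sum]
      push_cast
      rw [← sub_eq_iff_eq_add, ← sum_sub_distrib,
        Finset.sum_eq_single (-e) (fun i _ hi => by rw [hconst i hi, sub_self]) (by simp)]
      ring) with h | h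
  · exact Or.inl (hDO ▸ h)
  · exact Or.inr (hDO ▸ h)

theorem kernel_cases (hp5 : 5 ≤ p) :
    ∃ T : Set Y, T.ncard = p ∧ b ∈ T ∧
      (fixedPoints ↥(stabilizer H b) Y = T ∨
        ((∃ y, y ≠ b ∧ (orbit ↥(stabilizer H b) y).ncard = p - 1) ∧
        ∀ y, y ≠ b → (orbit ↥(stabilizer H b) y).ncard = p - 1 →
          (insert b (orbit ↥(stabilizer H b) y) = B ∨ insert b (orbit ↥(stabilizer H b) y) = T) ∧
          ∀ c ∈ orbit ↥(stabilizer H b) y, ∃ y', y' ≠ c ∧
            (orbit ↥(stabilizer H c) y').ncard = p - 1 ∧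
            insert c (orbit ↥(stabilizer H c) y') = insert b (orbit ↥(stabilizer H b) y))) := by
  classical
  set Kb := kern H B ⊓ stabilizer H b with hKb
  set L := stabilizer H b with hL
  have hBdiff : (B \ {b}).ncard = p - 1 := by
    rw [Set.ncard_sdiff_singleton_of_mem S.mem, S.ncard]
  -- the kernel is transitive on `B \ {b}`
  have horbB : ∀ c ∈ B, c ≠ b → orbit Kb c = B \ {b} := by
    intro c hc hcb
    ext v
    constructor
    · rintro ⟨⟨k, hk⟩, rfl⟩
      exact ⟨S.smul_mem_of_mem_kern hk.1 hc, fun h => hcb (smul_left_cancel k (h.trans hk.2.symm))⟩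
    · rintro ⟨hv, hvb⟩
      obtain ⟨k, hk, hkb, hkc⟩ := h2 c hc hcb v hv hvb
      exact ⟨⟨k, hk, hkb⟩, hkc⟩
  have hsub : ∀ (g : H) y, y ∈ g • B → orbit Kb y ⊆ g • B := by
    rintro g y hy _ ⟨⟨k, hk⟩, rfl⟩
    exact S.smul_mem_smul_of_mem_kern hk.1 hy
  -- every translate of the block contains exactly one fixed point
  let T : Set Y := fixedPoints Kb Y
  have hbT : b ∈ T := fun k => k.2.2
  have hsingle : ∀ c ∈ T, orbit Kb c = {c} := fun c hc =>
    Set.eq_singleton_iff_unique_mem.2 ⟨mem_orbit_self c, fun v ⟨k, hk⟩ => hk ▸ hc k⟩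
  have hTB : ∀ c ∈ B, c ∈ T → c = b := by
    intro c hc hcT
    by_contra hcb
    have h := horbB c hc hcb
    rw [hsingle c hcT] at h
    rw [← h, Set.ncard_singleton] at hBdiff
    omega
  have huniq : ∀ g : H, ∃ t, T ∩ (g • B) = {t} ∧
      ∀ y ∈ g • B, y ∉ T → orbit Kb y = (g • B) \ {t} := by
    intro g
    by_cases hgB : g • B = B
    · refine ⟨b, ?_, fun y hy hyT => ?_⟩
      · rw [hgB]
        exact Set.eq_singleton_iff_unique_mem.2 ⟨⟨hbT, S.mem⟩, fun c hc => hTB c hc.2 hc.1⟩
      · rw [hgB] at hy ⊢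
        exact horbB y hy fun h => hyT (h ▸ hbT)
    have hgBne : ∀ y ∈ g • B, y ∉ B := fun y hy hyB => hgB (S.smul_eq_self hy hyB)
    have S' : Sys H p (g • B) (g • b) := ⟨S.card, S.block.translate g,
      by rw [Set.ncard_smul_set, S.ncard], Set.smul_mem_smul_set S.mem⟩
    have hreg' : ¬ p ∣ Nat.card (stabilizer H (g • b)) := by
      rwa [Nat.card_congr (stabilizerEquivStabilizer (rfl : g • b = g • b)).toEquiv.symm]
    have hkern : ∀ k, k ∈ kern H B → k ∈ kern H (g • B) := fun k hk => mem_kern_iff.2 fun u => by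
      rw [← mul_smul u g]; exact smul_block_of_mem_kern hk _
    obtain ⟨y₀, hy₀, hy₀T⟩ : ∃ y ∈ g • B, y ∉ T := by
      by_contra hall
      push Not at hall
      have hB1 : ∃ c ∈ B, c ≠ b := Set.exists_ne_of_one_lt_ncard (by rw [S.ncard]; omega) b
      obtain ⟨c, hc, hcb⟩ := hB1
      have h := horbB c hc hcb
      have hcT : c ∈ T := fun k => by
        have h1 : (k : H) = 1 :=
          S'.eq_one_of_fix_block hreg' (hkern _ k.2.1) fun y hy => hall y hy k
        change (k : H) • c = c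
        rw [h1, one_smul]
      exact hcb (hTB c hc hcT)
    have hcard : (orbit Kb y₀).ncard = p - 1 :=
      (S.orbit_card_cases hreg P hp2 h2 y₀ (hgBne _ hy₀)).resolve_left fun h => hy₀T (by
        obtain ⟨z, hz⟩ := Set.ncard_eq_one.1 h
        have e := mem_orbit_self (M := Kb) y₀
        rw [hz, Set.mem_singleton_iff] at e
        intro k
        have e2 : k • y₀ ∈ orbit Kb y₀ := mem_orbit y₀ k
        rw [hz, Set.mem_singleton_iff] at e2
        exact e2.trans e.symm)
    have hrest : ((g • B) \ orbit Kb y₀).ncard = 1 := by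
      rw [Set.ncard_sdiff (hsub g y₀ hy₀), Set.ncard_smul_set, S.ncard, hcard]
      omega
    obtain ⟨t, ht⟩ := Set.ncard_eq_one.1 hrest
    have ht' : t ∈ g • B ∧ t ∉ orbit Kb y₀ := by
      have := Set.mem_singleton t; rw [← ht] at this; exact this
    have htT : t ∈ T := by
      intro k
      have h1 : k • t ∈ (g • B) \ orbit Kb y₀ := by
        refine ⟨hsub g t ht'.1 (mem_orbit t k), fun h => ht'.2 ?_⟩
        rw [← orbit_eq_iff] at h ⊢
        rw [← h, orbit_smul]
      rw [ht] at h1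
      exact h1
    have horb : ∀ y ∈ g • B, y ≠ t → orbit Kb y = orbit Kb y₀ := fun y hy hyt =>
      orbit_eq_iff.2 (by_contra fun h => hyt (by
        have : y ∈ (g • B) \ orbit Kb y₀ := ⟨hy, h⟩
        rw [ht] at this; exact this))
    refine ⟨t, Set.eq_singleton_iff_unique_mem.2 ⟨⟨htT, ht'.1⟩, fun y hy => ?_⟩, fun y hy hyT => ?_⟩
    · by_contra hyt
      have h := horb y hy.2 hyt
      rw [hsingle y hy.1] at h
      rw [← h, Set.ncard_singleton] at hcard
      omega
    · have hyt : y ≠ t := fun h => hyT (h ▸ htT)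
      rw [horb y hy hyt, ← ht, Set.sdiff_sdiff_cancel_left (hsub g y₀ hy₀)]
  have hTc : T.ncard = p := by
    have hbij : T.ncard = (orbit H B).ncard := by
      refine Set.ncard_congr (fun t _ => (exists_smul_eq H b t).choose • B) (fun t ht => ⟨_, rfl⟩)
        (fun t t' ht ht' he => ?_) fun C hC => ?_
      · have e1 := Set.smul_mem_smul_set (a := (exists_smul_eq H b t).choose) S.mem
        have e2 := Set.smul_mem_smul_set (a := (exists_smul_eq H b t').choose) S.mem
        rw [(exists_smul_eq H b t).choose_spec] at e1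
        rw [(exists_smul_eq H b t').choose_spec, ← he] at e2
        obtain ⟨u, hu, -⟩ := huniq (exists_smul_eq H b t).choose
        have f1 : t ∈ ({u} : Set Y) := hu ▸ ⟨ht, e1⟩
        have f2 : t' ∈ ({u} : Set Y) := hu ▸ ⟨ht', e2⟩
        exact f1.trans f2.symm
      · obtain ⟨g, rfl⟩ := hC
        obtain ⟨u, hu, -⟩ := huniq g
        have hu' : u ∈ T ∧ u ∈ g • B := by
          have := Set.mem_singleton u; rw [← hu] at this; exact this
        refine ⟨u, hu'.1, ?_⟩
        have := Set.smul_mem_smul_set (a := (exists_smul_eq H b u).choose) S.mem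
        rw [(exists_smul_eq H b u).choose_spec] at this
        exact S.smul_eq_of_mem this hu'.2
    have h := S.block.ncard_block_mul_ncard_orbit_eq S.ne
    rw [S.ncard, S.card, pow_two, ← hbij] at h
    exact Nat.eq_of_mul_eq_mul_left (by omega) h
  have hgT : ∀ t ∈ T, ∀ g : H, g • b = t → g • T = T := by
    intro t ht g hg
    refine Set.eq_of_subset_of_ncard_le ?_ (by rw [Set.ncard_smul_set]) (Set.toFinite _)
    rintro _ ⟨y, hy, rfl⟩ ⟨k, hk⟩
    have hk' : g⁻¹ * k * g ∈ Kb := by
      refine ⟨by simpa using (inferInstance : (kern H B).Normal).conj_mem k hk.1 g⁻¹, ?_⟩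
      change (g⁻¹ * k * g) • b = b
      rw [mul_smul, mul_smul, hg, show k • t = t from ht ⟨k, hk⟩, ← hg, inv_smul_smul]
    have := hy ⟨_, hk'⟩
    change (g⁻¹ * k * g) • y = y at this
    rw [mul_smul, mul_smul, inv_smul_eq_iff] at this
    exact this
  refine ⟨T, hTc, hbT, ?_⟩
  by_cases hex : ∃ y, y ≠ b ∧ y ∈ fixedPoints L Y
  · left
    obtain ⟨y, hyb, hy⟩ := hex
    have hLT : fixedPoints L Y ⊆ T := fun z hz k => hz ⟨k, k.2.2⟩
    refine Set.eq_of_subset_of_ncard_le hLT ?_ (Set.toFinite _)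
    have hstabeq : ∀ z ∈ fixedPoints L Y, stabilizer H z = L := by
      intro z hz
      refine (Subgroup.eq_of_le_of_card_ge (fun l hl => hz ⟨l, hl⟩) ?_).symm
      obtain ⟨u, hu⟩ := exists_smul_eq H b z
      exact (Nat.card_congr (stabilizerEquivStabilizer hu.symm).toEquiv).ge
    have hblk : IsBlock H (fixedPoints L Y) := by
      refine isBlock_iff_smul_eq_of_nonempty.2 fun g ⟨z, ⟨w, hw, hwz⟩, hz⟩ => ?_
      refine Set.eq_of_subset_of_ncard_le ?_ (by rw [Set.ncard_smul_set]) (Set.toFinite _)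
      rintro _ ⟨v, hv, rfl⟩ ⟨l, hl⟩
      have hzs : stabilizer H z = L := hstabeq z hz
      have hl' : g⁻¹ * l * g ∈ L := by
        rw [← hstabeq w hw]
        change (g⁻¹ * l * g) • w = w
        rw [← hzs] at hl
        simp only at hwz
        rw [mul_smul, mul_smul, hwz, show l • z = z from hl, ← hwz, inv_smul_smul]
      have := hv ⟨_, hl'⟩
      change (g⁻¹ * l * g) • v = v at this
      rw [mul_smul, mul_smul, inv_smul_eq_iff] at this
      exact this
    have hbF : b ∈ fixedPoints L Y := fun l => l.2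
    have h1 : (fixedPoints L Y).ncard ∣ p ^ 2 := S.card ▸ hblk.ncard_dvd_card ⟨b, hbF⟩
    have h3 : 1 < (fixedPoints L Y).ncard :=
      (Set.one_lt_ncard_iff (Set.toFinite _)).2 ⟨y, b, hy, hbF, hyb⟩
    obtain ⟨i, hi, he⟩ := (Nat.dvd_prime_pow (Fact.out : p.Prime)).1 h1
    rw [hTc, he]
    refine Nat.le_self_pow ?_ p
    rintro rfl
    rw [he, pow_zero] at h3
    exact lt_irrefl _ h3
  right
  push Not at hex
  have hLB : ∀ l : L, ∀ c ∈ B, (l : H) • c ∈ B := fun l c hc => by
    rw [← (S.stab_le l.2 : (l : H) • B = B)]; exact Set.smul_mem_smul_set hc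
  have hLT : ∀ l : L, ∀ c ∈ T, (l : H) • c ∈ T := fun l c hc => by
    rw [← hgT b hbT l l.2]; exact Set.smul_mem_smul_set hc
  have hKL : ∀ y : Y, orbit Kb y ⊆ orbit L y := by
    rintro y _ ⟨k, rfl⟩; exact ⟨⟨k, k.2.2⟩, rfl⟩
  refine ⟨?_, fun y hyb hy => ?_⟩
  · obtain ⟨c, hc, hcb⟩ := Set.exists_ne_of_one_lt_ncard (s := B) (by rw [S.ncard]; omega) b
    refine ⟨c, hcb, ?_⟩
    rw [← hBdiff]
    congr 1
    refine Set.Subset.antisymm ?_ (horbB c hc hcb ▸ hKL c)
    rintro _ ⟨l, rfl⟩
    exact ⟨hLB l c hc, fun h => hcb (smul_left_cancel (l : H) (h.trans l.2.symm))⟩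
  set O := orbit L y with hO
  have hbO : b ∉ O := fun h => hyb (by
    obtain ⟨l, hl⟩ := h
    exact smul_left_cancel (l : H) (hl.trans l.2.symm))
  have hline : O = B \ {b} ∨ O = T \ {b} := by
    by_cases hyB : y ∈ B
    · left
      refine Set.eq_of_subset_of_ncard_le ?_ (by rw [hy, hBdiff]) (Set.toFinite _)
      rintro v hv
      refine ⟨?_, fun h => hbO (h ▸ hv)⟩
      obtain ⟨l, rfl⟩ := hv
      exact hLB l y hyB
    by_cases hyT : y ∈ T
    · right
      refine Set.eq_of_subset_of_ncard_le ?_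
        (by rw [hy, Set.ncard_sdiff_singleton_of_mem hbT, hTc]) (Set.toFinite _)
      rintro v hv
      refine ⟨?_, fun h => hbO (h ▸ hv)⟩
      obtain ⟨l, rfl⟩ := hv
      exact hLT l y hyT
    exfalso
    obtain ⟨g, hg, hgy⟩ := S.exists_mem_smul y
    obtain ⟨t, ht, hor⟩ := huniq g
    have ht' : t ∈ T ∧ t ∈ g • B := by
      have := Set.mem_singleton t; rw [← ht] at this; exact this
    have hKeq : orbit Kb y = O := by
      refine Set.eq_of_subset_of_ncard_le (hKL y) ?_ (Set.toFinite _)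
      rw [hy, hor y hgy hyT, Set.ncard_sdiff_singleton_of_mem ht'.2, Set.ncard_smul_set, S.ncard]
    have htb : t ≠ b := fun h => hyB (by
      rw [← S.smul_eq_self (h ▸ ht'.2) S.mem]; exact hgy)
    refine hex t htb fun l => ?_
    have hly : (l : H) • y ∈ g • B := hsub g y hgy (hKeq ▸ mem_orbit y l)
    have hlB : (l : H) • g • B = g • B := by
      rw [← mul_smul]
      exact S.smul_eq_of_mem (y := (l : H) • y)
        (by rw [mul_smul]; exact Set.smul_mem_smul_set hgy) hly
    have : (l : H) • t ∈ T ∩ g • B :=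
      ⟨hLT l t ht'.1, by rw [← hlB]; exact Set.smul_mem_smul_set ht'.2⟩
    rw [ht] at this
    exact this
  refine ⟨hline.imp (fun h => by rw [h]; exact Set.insert_sdiff_self_of_mem S.mem)
    (fun h => by rw [h]; exact Set.insert_sdiff_self_of_mem hbT), fun c hc => ?_⟩
  obtain ⟨g, hg⟩ := exists_smul_eq H b c
  have hgline : g • insert b O = insert b O := by
    rcases hline with h | h <;> rw [h] at hc ⊢
    · rw [Set.insert_sdiff_self_of_mem S.mem]
      exact S.smul_eq_self (hg ▸ Set.smul_mem_smul_set S.mem) hc.1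
    · rw [Set.insert_sdiff_self_of_mem hbT]
      exact hgT c hc.1 g hg
  have horb : orbit (stabilizer H c) (g • y) = g • O := by
    ext v
    constructor
    · rintro ⟨⟨u, hu⟩, rfl⟩
      refine ⟨(g⁻¹ * u * g) • y, ⟨⟨g⁻¹ * u * g, ?_⟩, rfl⟩, ?_⟩
      · change (g⁻¹ * u * g) • b = b
        rw [mul_smul, mul_smul, hg, show u • c = c from hu, ← hg, inv_smul_smul]
      · simp only [mul_smul, smul_inv_smul]; rfl
    · rintro ⟨_, ⟨⟨u, hu⟩, rfl⟩, rfl⟩
      refine ⟨⟨g * u * g⁻¹, ?_⟩, ?_⟩
      · change (g * u * g⁻¹) • c = c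
        rw [mul_smul, mul_smul, ← hg, inv_smul_smul, show u • b = b from hu]
      · change (g * u * g⁻¹) • g • y = g • u • y
        rw [mul_smul, mul_smul, inv_smul_smul]
  refine ⟨g • y, fun h => hyb (smul_left_cancel g (h.trans hg.symm)), ?_, ?_⟩
  · rw [horb, Set.ncard_smul_set, hy]
  · rw [horb, ← hg, ← Set.smul_set_insert, hgline]

end Cfsg.Agent.SqPlusOne.Sys
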