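/-
The case of a Sylow `p`-subgroup that is not normal.

* `exists_sys_not_normal` : some block has a kernel without normal Sylow `p`-subgroup
* `two_trans_block` : such a kernel is two-transitive on the block, and `5 ≤ p`
-/
import Cfsg.Agent.Lib.SqPlusOne.Regular
import Cfsg.Agent.Lib.Transfer.AbelianHall
import Cfsg.Agent.Lib.Perm.PrimeTransitive
import Cfsg.Agent.S0675

set_option autoImplicit false
set_option linter.unusedSectionVars false

namespace Cfsg.Agent.SqPlusOne.Sys

open MulAction Pointwise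

variable {H Y : Type*} [Group H] [MulAction H Y] [Finite H] [Finite Y] [IsPretransitive H Y]
  [FaithfulSMul H Y] {p : ℕ} [Fact p.Prime] {B : Set Y} {b : Y}
  (S : Sys H p B b) (hreg : ¬ p ∣ Nat.card (stabilizer H b)) (P : Sylow p H)

include S hreg

theorem exists_sys_not_normal (hP : ¬ (P : Subgroup H).Normal) :
    ∃ B' : Set Y, Sys H p B' b ∧ ¬ ((P : Subgroup H) ⊓ kern H B').Normal := by
  have hp := (Fact.out : p.Prime)
  by_cases hZn : ((P : Subgroup H) ⊓ kern H B).Normal
  swap; · exact ⟨B, S, hZn⟩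
  set Z := (P : Subgroup H) ⊓ kern H B with hZdef
  let C : Subgroup H := Subgroup.centralizer (Z : Set H)
  have hPC : (P : Subgroup H) ≤ C := fun u hu =>
    Subgroup.mem_centralizer_iff.2 fun z hz => S.sylow_comm hreg P hz.1 hu
  let W : Subgroup H := ⁅C, C⁆
  have hWn : W.Normal := Subgroup.commutator_normal C C
  have hW : W ≠ ⊥ := fun hW => hP <| by
    have hc : IsMulCommutative C := ⟨⟨fun x y => Subtype.ext
      ((commutatorElement_eq_one_iff_mul_comm.1
        (Subgroup.mem_bot.1 (hW ▸ Subgroup.commutator_mem_commutator x.2 y.2))))⟩⟩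
    let P' : Sylow p C := P.subtype hPC
    have hn : (P' : Subgroup C).Normal := ⟨fun n hn g => by
      rwa [hc.is_comm.comm g n, mul_inv_cancel_right]⟩
    have := Sylow.characteristic_of_normal P' hn
    have h2 : ((P' : Subgroup C).map C.subtype).Normal :=
      ConjAct.normal_of_characteristic_of_normal
    rwa [Sylow.coe_subtype, Subgroup.map_subgroupOf_eq_of_le hPC] at h2
  have hpW : p ∣ Nat.card W := by
    by_contra h
    exact hW (S.eq_bot_of_normal hreg W h)
  have hWZ : ∀ x ∈ W, x ∈ Z → x = 1 := by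
    intro x hxW hxZ
    have hxC : x ∈ C := hPC hxZ.1
    have hab : IsMulCommutative ((P.subtype hPC : Sylow p C) : Subgroup C) :=
      ⟨⟨fun u v => Subtype.ext (Subtype.ext (S.sylow_comm hreg P u.2 v.2))⟩⟩
    have h := Transfer.inf_commutator_inf_center_eq_bot ((P.subtype hPC : Sylow p C) : Subgroup C)
      hab (Sylow.card_coprime_index _)
    have h1 : (⟨x, hxC⟩ : C) ∈
        ((P.subtype hPC : Sylow p C) : Subgroup C) ⊓ commutator C ⊓ Subgroup.center C := by
      refine ⟨⟨hxZ.1, ?_⟩, Subgroup.mem_center_iff.2 fun c => Subtype.ext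
        (Subgroup.mem_centralizer_iff.1 c.2 x hxZ).symm⟩
      have h2 : x ∈ (commutator C).map C.subtype := by
        rwa [Subgroup.map_subtype_commutator]
      obtain ⟨y, hy, rfl⟩ := h2
      exact hy
    rw [h, Subgroup.mem_bot] at h1
    exact congrArg Subtype.val h1
  have hW2 : ¬ p ^ 2 ∣ Nat.card W := fun h => by
    obtain ⟨R, hR⟩ := Sylow.exists_subgroup_card_pow_prime p h
    obtain ⟨Q, hQ⟩ := (IsPGroup.of_card (n := 2) (G := R.map W.subtype) (by
      rw [Subgroup.card_subtype, hR])).exists_le_sylow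
    have hQW : (Q : Subgroup H) ≤ W := by
      rw [← Subgroup.eq_of_le_of_card_ge hQ (by
        rw [S.card_sylow' hreg Q, Subgroup.card_subtype, hR])]
      exact Subgroup.map_subtype_le R
    obtain ⟨g, hg⟩ := exists_smul_eq H Q P
    have hPW : (P : Subgroup H) ≤ W := fun u hu => by
      rw [← hg, Sylow.smul_def, Sylow.pointwise_smul_def] at hu
      obtain ⟨v, hv, rfl⟩ := hu
      exact hWn.conj_mem v (hQW hv) g
    have h1 : Z = ⊥ := (Subgroup.eq_bot_iff_forall _).2 fun z hz => hWZ z (hPW hz.1) hz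
    have := S.card_zed hreg P
    rw [← hZdef, h1, Subgroup.card_bot] at this
    exact hp.ne_one this.symm
  let B' := orbit W b
  have hB'c : B'.ncard = p := by
    have h1 : B'.ncard ∣ p ^ 2 := S.card ▸
      (IsBlock.orbit_of_normal (G := H) (N := W) b).ncard_dvd_card ⟨b, mem_orbit_self b⟩
    have h2 : B'.ncard ∣ Nat.card W := by
      rw [← index_stabilizer]; exact Subgroup.index_dvd_card _
    obtain ⟨i, hi, hBi⟩ := (Nat.dvd_prime_pow hp).1 h1
    interval_cases i
    · exfalso
      refine hW ((Subgroup.eq_bot_iff_forall _).2 fun w hw => ?_)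
      apply FaithfulSMul.eq_of_smul_eq_smul (α := Y)
      intro y
      obtain ⟨g, rfl⟩ := exists_smul_eq H b y
      rw [pow_zero, Set.ncard_eq_one] at hBi
      obtain ⟨c, hc⟩ := hBi
      have e1 : w • g • b ∈ g • B' := by
        rw [smul_orbit_eq_orbit_smul]; exact ⟨⟨w, hw⟩, rfl⟩
      have e2 : g • b ∈ g • B' := Set.smul_mem_smul_set (mem_orbit_self b)
      rw [hc, Set.smul_set_singleton, Set.mem_singleton_iff] at e1 e2
      rw [one_smul, e1, ← e2]
    · rw [hBi, pow_one]
    · exact absurd (hBi ▸ h2) hW2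
  refine ⟨B', ⟨S.card, IsBlock.orbit_of_normal b, hB'c, mem_orbit_self b⟩, fun hZ' => hP ?_⟩
  set Z' := (P : Subgroup H) ⊓ kern H B' with hZ'def
  have S' : Sys H p B' b := ⟨S.card, IsBlock.orbit_of_normal b, hB'c, mem_orbit_self b⟩
  have hWk : W ≤ kern H B' := fun w hw => mem_kern_iff.2 fun g => by
    rw [show g • B' = orbit W (g • b) from smul_orbit_eq_orbit_smul W b g]
    exact smul_orbit (⟨w, hw⟩ : W) (g • b)
  obtain ⟨x, hx⟩ := exists_prime_orderOf_dvd_card' p hpW
  obtain ⟨Q, hQ⟩ := (IsPGroup.of_card (n := 1) (G := Subgroup.zpowers (x : H))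
    (by rw [Nat.card_zpowers, Subgroup.orderOf_coe, hx, pow_one])).exists_le_sylow
  obtain ⟨g, hg⟩ := exists_smul_eq H Q P
  have hxP : g * x * g⁻¹ ∈ (P : Subgroup H) := by
    rw [← hg, Sylow.smul_def, Sylow.pointwise_smul_def]
    exact ⟨x, hQ (Subgroup.mem_zpowers _), rfl⟩
  have hxW : g * x * g⁻¹ ∈ W := hWn.conj_mem x x.2 g
  have hxZ : g * x * g⁻¹ ∈ Z' := ⟨hxP, hWk hxW⟩
  have hne : ¬ Z' ≤ Z := fun h => by
    have hone := hWZ _ hxW (h hxZ)
    rw [conj_eq_one_iff] at hone
    rw [← Subgroup.orderOf_coe, hone, orderOf_one] at hx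
    exact hp.ne_one hx.symm
  have hsup : Z ⊔ Z' = (P : Subgroup H) := by
    refine Subgroup.eq_of_le_of_card_ge (sup_le inf_le_left inf_le_left) ?_
    rw [S.card_sylow' hreg P]
    obtain ⟨i, hi, hc⟩ := (Nat.dvd_prime_pow hp).1 (S.card_sylow' hreg P ▸
      Subgroup.card_dvd_of_le (sup_le inf_le_left inf_le_left : Z ⊔ Z' ≤ (P : Subgroup H)))
    rw [hc]
    refine Nat.pow_le_pow_right hp.pos (not_lt.1 fun hi2 => hne ?_)
    have : Z ⊔ Z' = Z := (Subgroup.eq_of_le_of_card_ge le_sup_left (by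
      rw [hc, hZdef, S.card_zed hreg P]
      exact (Nat.pow_le_pow_right hp.pos (by omega)).trans (pow_one p).le)).symm
    exact sup_eq_left.1 this
  rw [← hsup]
  exact Subgroup.sup_normal Z Z'

theorem two_trans_block (hp2 : p ≠ 2) (hZ : ¬ ((P : Subgroup H) ⊓ kern H B).Normal) :
    5 ≤ p ∧ ∀ c ∈ B, c ≠ b → ∀ c' ∈ B, c' ≠ b → ∃ k ∈ kern H B, k • b = b ∧ k • c = c' := by
  classical
  have hp := (Fact.out : p.Prime)
  set Z := (P : Subgroup H) ⊓ kern H B with hZdef
  let K := kern H B
  let X : Type _ := orbit K b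
  have horb : orbit K b = B := by
    refine Set.Subset.antisymm ?_ fun y hy => ?_
    · rintro y ⟨k, rfl⟩
      exact S.smul_mem_of_mem_kern k.2 S.mem
    · obtain ⟨z, hz, rfl⟩ := (S.mem_block_iff hreg P).1 hy
      exact ⟨⟨z, hz.2⟩, rfl⟩
  have hX : Nat.card X = p := by
    rw [Nat.card_coe_set_eq, horb, S.ncard]
  have hfaith : FaithfulSMul K X := ⟨fun {k l} h => by
    refine Subtype.ext (inv_mul_eq_one.1 (S.eq_one_of_fix_block hreg
      (mul_mem (inv_mem l.2) k.2) fun y hy => ?_)).symm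
    rw [mul_smul, inv_smul_eq_iff]
    exact congrArg Subtype.val (h ⟨y, horb.symm ▸ hy⟩)⟩
  let ZK : Subgroup K := Z.subgroupOf K
  have hZK : Nat.card ZK = p := by
    rw [Nat.card_congr (Subgroup.subgroupOfEquivOfLe (inf_le_right : Z ≤ K)).toEquiv,
      S.card_zed hreg P]
  obtain ⟨Q, hQ⟩ := (IsPGroup.of_card (n := 1) (G := ZK) (by rw [hZK, pow_one])).exists_le_sylow
  have hQc := (Perm.sylow_prime_degree (G := K) (α := X) hX Q).1
  have hQe : ZK = (Q : Subgroup K) := Subgroup.eq_of_le_of_card_ge hQ (by rw [hQc, hZK])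
  have hQn : ¬ (Q : Subgroup K).Normal := fun hn => hZ <| by
    have := Sylow.characteristic_of_normal Q hn
    have h2 : ((Q : Subgroup K).map K.subtype).Normal :=
      ConjAct.normal_of_characteristic_of_normal
    rw [← hQe] at h2
    rwa [Subgroup.map_subgroupOf_eq_of_le (inf_le_right : Z ≤ K)] at h2
  constructor
  · have h4 : p ≠ 4 := fun h => by rw [h] at hp; norm_num at hp
    have h3 : p ≠ 3 := by
      intro h3
      subst h3
      refine hQn ?_
      have h1 : Nat.card K ∣ 6 := by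
        have h := Subgroup.card_dvd_of_injective (MulAction.toPermHom K X) MulAction.toPerm_injective
        rwa [Nat.card_perm, hX] at h
      have h2 : (Q : Subgroup K).index ∣ 2 := by
        have := (Q : Subgroup K).index_mul_card
        rw [hQc] at this
        exact (Nat.mul_dvd_mul_iff_right (by norm_num : 0 < 3)).1 (by rw [this]; exact h1)
      rcases (Nat.dvd_prime Nat.prime_two).1 h2 with h | h
      · rw [Subgroup.index_eq_one.1 h]; infer_instance
      · exact Subgroup.normal_of_index_eq_two h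
    have := hp.two_le
    omega
  have := Fintype.ofFinite X
  let f := MulAction.toPermHom K X
  have hf : Function.Injective f := MulAction.toPerm_injective
  have : IsPretransitive f.range X := ⟨fun x y => by
    obtain ⟨k, hk⟩ := exists_smul_eq K x y
    exact ⟨⟨f k, k, rfl⟩, hk⟩⟩
  rcases S0675.result (α := X) (by rw [← Nat.card_eq_fintype_card, hX]; exact hp) f.range with hs | h2
  · refine absurd (Perm.sylow_normal_of_isSolvable (G := K) (α := X) hX ?_ Q) hQn
    have := hs
    exact Group.isSolvable_of_isSolvable_injective (f := f.rangeRestrict)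
      (MonoidHom.rangeRestrict_injective_iff.2 hf)
  intro c hc hcb c' hc' hc'b
  have hb' : b ∈ orbit K b := mem_orbit_self b
  have n1 : (⟨b, hb'⟩ : X) ≠ ⟨c, horb.symm ▸ hc⟩ := fun h => hcb (congrArg Subtype.val h).symm
  have n2 : (⟨b, hb'⟩ : X) ≠ ⟨c', horb.symm ▸ hc'⟩ := fun h => hc'b (congrArg Subtype.val h).symm
  obtain ⟨⟨_, k, rfl⟩, hk1, hk2⟩ := is_two_pretransitive_iff.1 h2 n1 n2
  exact ⟨k, k.2, congrArg Subtype.val hk1, congrArg Subtype.val hk2⟩

end Cfsg.Agent.SqPlusOne.Sys
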