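/-
Invariant families of `(p + 1)`-sets in a two-transitive set of `p² + 1` points.

* `dvd_of_family` : if each pair lies in `l` of the sets then `p + 1` divides `2 l`
* `no_unique_line` : no set of size `p + 1` is the only one of its translates through two of its points
* `line_family_small` : an invariant rule giving each pair at most two lines forces `p ≤ 3`
-/
import Mathlib

set_option autoImplicit false

namespace Cfsg.Agent.SqPlusOne

open MulAction Finset Pointwise

variable {G Ω : Type*} [Group G] [MulAction G Ω] [Fintype Ω]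

open scoped Classical in
theorem dvd_of_family {p l : ℕ} (hp : 0 < p) (hn : Fintype.card Ω = p ^ 2 + 1)
    (F : Finset (Finset Ω)) (hcard : ∀ S ∈ F, S.card = p + 1)
    (hpair : ∀ x y : Ω, x ≠ y → (F.filter fun S => x ∈ S ∧ y ∈ S).card = l) :
    p + 1 ∣ 2 * l := by
  have h1 : ∑ S ∈ F, S.offDiag.card = F.card * ((p + 1) * p) := by
    rw [← smul_eq_mul, ← sum_const]
    refine sum_congr rfl fun S hS => ?_
    rw [offDiag_card, hcard S hS, ← Nat.mul_sub_one, add_tsub_cancel_right]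
  have h2 : ∑ S ∈ F, S.offDiag.card = (univ : Finset Ω).offDiag.card * l := by
    rw [← smul_eq_mul, ← sum_const]
    have h := sum_card_bipartiteAbove_eq_sum_card_bipartiteBelow
      (fun (S : Finset Ω) (q : Ω × Ω) => q.1 ∈ S ∧ q.2 ∈ S) (s := F) (t := (univ : Finset Ω).offDiag)
    refine Eq.trans (sum_congr rfl fun S _ => ?_) (h.trans (sum_congr rfl fun q hq => ?_))
    · congr 1; ext q; simp [mem_offDiag, mem_bipartiteAbove]; tauto
    · exact hpair q.1 q.2 (mem_offDiag.1 hq).2.2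
  rw [h1, offDiag_card, card_univ, hn, ← Nat.mul_sub_one, add_tsub_cancel_right] at h2
  have h3 : F.card * (p + 1) = (p ^ 2 + 1) * p * l := by
    refine Nat.eq_of_mul_eq_mul_right hp ?_
    linear_combination h2
  zify at h3 ⊢
  exact ⟨l * ((p : ℤ) ^ 2 - p + 2) - F.card, by linear_combination h3⟩

/-- An invariant family of `(p+1)`-sets, at most `m` of them through a base pair, at least one. -/
theorem exists_dvd_of_invariant [DecidableEq Ω] {p : ℕ} (hp : 0 < p) (hn : Fintype.card Ω = p ^ 2 + 1)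
    (h2 : IsMultiplyPretransitive G Ω 2) (Q : Set Ω → Prop)
    (hinv : ∀ (g : G) S, Q S → Q (g • S)) (hcard : ∀ S, Q S → S.ncard = p + 1)
    {a b : Ω} (hab : a ≠ b) {E : Finset (Set Ω)} (hE : ∀ S, Q S → a ∈ S → b ∈ S → S ∈ E)
    (hne : ∃ S, Q S ∧ a ∈ S ∧ b ∈ S) : ∃ l, 0 < l ∧ l ≤ E.card ∧ p + 1 ∣ 2 * l := by
  classical
  let F : Finset (Finset Ω) := univ.filter fun S => Q (S : Set Ω)
  refine ⟨(F.filter fun S => a ∈ S ∧ b ∈ S).card, ?_, ?_, ?_⟩
  · obtain ⟨S, hS, ha, hb⟩ := hne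
    exact card_pos.2 ⟨S.toFinset, by simp [F, hS, ha, hb]⟩
  · refine card_le_card_of_injOn (fun S => (S : Set Ω)) (fun S hS => ?_)
      (Finset.coe_injective.injOn)
    simp only [F, coe_filter, mem_filter, mem_univ, true_and, Set.mem_ofPred_eq] at hS
    exact hE _ hS.1 (mem_coe.2 hS.2.1) (mem_coe.2 hS.2.2)
  · refine dvd_of_family hp hn F (fun S hS => ?_) fun x y hxy => ?_
    · rw [← Set.ncard_coe_finset]
      exact hcard _ (mem_filter.1 hS).2
    · obtain ⟨g, hgx, hgy⟩ := is_two_pretransitive_iff.1 h2 hxy hab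
      refine card_bij' (fun S _ => g • S) (fun S _ => g⁻¹ • S) (fun S hS => ?_) (fun S hS => ?_)
        (fun S _ => inv_smul_smul g S) (fun S _ => smul_inv_smul g S)
      · simp only [F, mem_filter, mem_univ, true_and] at hS ⊢
        refine ⟨by rw [coe_smul_finset]; exact hinv _ _ hS.1, ?_, ?_⟩
        · rw [← hgx]; exact smul_mem_smul_finset hS.2.1
        · rw [← hgy]; exact smul_mem_smul_finset hS.2.2
      · simp only [F, mem_filter, mem_univ, true_and] at hS ⊢
        refine ⟨by rw [coe_smul_finset]; exact hinv _ _ hS.1, ?_, ?_⟩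
        · rw [← inv_smul_smul g x, hgx]; exact smul_mem_smul_finset hS.2.1
        · rw [← inv_smul_smul g y, hgy]; exact smul_mem_smul_finset hS.2.2

theorem no_unique_line {p : ℕ} (hp : 2 ≤ p) (hn : Fintype.card Ω = p ^ 2 + 1)
    (h2 : IsMultiplyPretransitive G Ω 2) {a b : Ω} (hab : a ≠ b) (L : Set Ω) (hLa : a ∈ L)
    (hLb : b ∈ L) (hL : L.ncard = p + 1) (huniq : ∀ g : G, a ∈ g • L → b ∈ g • L → g • L = L) :
    False := by
  classical
  obtain ⟨l, hl, hle, hd⟩ := exists_dvd_of_invariant (by omega) hn h2 (fun S => ∃ g : G, g • L = S)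
    (fun g S ⟨k, hk⟩ => ⟨g * k, by rw [mul_smul, hk]⟩)
    (fun S ⟨g, hg⟩ => by rw [← hg, Set.ncard_smul_set, hL]) hab (E := {L})
    (fun S ⟨g, hg⟩ ha hb => by rw [mem_singleton, ← hg]; exact huniq g (hg ▸ ha) (hg ▸ hb))
    ⟨L, ⟨1, one_smul G L⟩, hLa, hLb⟩
  rw [card_singleton] at hle
  have := Nat.le_of_dvd (by omega) hd
  omega

/-- A rule attaching lines to pairs, compatible with the group, symmetric, and such that a line of
`(a, b)` is a line of `(a, c)` for each of its other points `c`. -/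
theorem line_family_small {p : ℕ} (hp : 2 ≤ p) (hn : Fintype.card Ω = p ^ 2 + 1)
    (h2 : IsMultiplyPretransitive G Ω 2) {a b : Ω} (hab : a ≠ b) (R : Ω → Ω → Set Ω → Prop)
    (hequiv : ∀ (g : G) x y S, R x y S → R (g • x) (g • y) (g • S))
    (hsymm : ∀ x y S, R x y S → R y x S)
    (hcard : ∀ x y S, R x y S → S.ncard = p + 1) (hmem : ∀ x y S, R x y S → x ∈ S ∧ y ∈ S)
    (hbase : ∀ S, R a b S → ∀ c ∈ S, c ≠ a → R a c S)
    {E : Finset (Set Ω)} (hE : ∀ S, R a b S → S ∈ E) (hE2 : E.card ≤ 2)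
    (hne : ∃ S, R a b S) : p ≤ 3 := by
  classical
  have hstep : ∀ x y S, x ≠ y → R x y S → ∀ c ∈ S, c ≠ x → R x c S := by
    intro x y S hxy hS c hc hcx
    obtain ⟨g, rfl, rfl⟩ := is_two_pretransitive_iff.1 h2 hab hxy
    have h1 : R a b (g⁻¹ • S) := by simpa using hequiv g⁻¹ _ _ _ hS
    have h3 := hequiv g _ _ _ (hbase _ h1 (g⁻¹ • c) (Set.smul_mem_smul_set hc)
      (fun h => hcx (by rw [← h, smul_inv_smul])))
    rwa [smul_inv_smul, smul_inv_smul] at h3
  have hall : ∀ S : Set Ω, (∃ x y, x ≠ y ∧ R x y S) → a ∈ S → b ∈ S → S ∈ E := by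
    rintro S ⟨x, y, hxy, hS⟩ ha hb
    by_cases hax : a = x
    · subst hax; exact hE S (hstep a y S hxy hS b hb hab.symm)
    · have h1 := hsymm _ _ _ (hstep x y S hxy hS a ha hax)
      exact hE S (hstep a x S hax h1 b hb hab.symm)
  obtain ⟨S₀, hS₀⟩ := hne
  obtain ⟨l, hl, hle, hd⟩ := exists_dvd_of_invariant (by omega) hn h2
    (fun S => ∃ x y, x ≠ y ∧ R x y S)
    (fun g S ⟨x, y, hxy, hS⟩ => ⟨g • x, g • y, by simpa using hxy, hequiv g x y S hS⟩)
    (fun S ⟨x, y, _, hS⟩ => hcard x y S hS) hab hall ⟨S₀, ⟨a, b, hab, hS₀⟩, hmem a b S₀ hS₀⟩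
  have := Nat.le_of_dvd (by omega) hd
  omega

end Cfsg.Agent.SqPlusOne
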