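/-
The case of a normal regular Sylow `p`-subgroup.

* `normal_cases` : the fixed point sets of the elements of a point stabiliser, and two order bounds
-/
import Cfsg.Agent.Lib.SqPlusOne.Regular

set_option autoImplicit false
set_option linter.unusedSectionVars false

namespace Cfsg.Agent.SqPlusOne.Sys

open MulAction Pointwise

variable {H Y : Type*} [Group H] [MulAction H Y] [Finite H] [Finite Y] [IsPretransitive H Y]
  [FaithfulSMul H Y] {p : ℕ} [Fact p.Prime] {B : Set Y} {b : Y}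
  (S : Sys H p B b) (hreg : ¬ p ∣ Nat.card (stabilizer H b)) (P : Sylow p H)
  (hPn : ((P : Subgroup H)).Normal)

include S hreg hPn

theorem smul_smul_eq {l u : H} (hl : l ∈ stabilizer H b) :
    l • (u • b) = (l * u * l⁻¹) • b := by
  rw [mul_smul, mul_smul, inv_smul_eq_iff.2 hl.symm]

theorem fix_iff {l u : H} (hl : l ∈ stabilizer H b) (hu : u ∈ (P : Subgroup H)) :
    l • (u • b) = u • b ↔ l * u = u * l := by
  rw [S.smul_smul_eq hreg P hPn hl]
  refine ⟨fun h => ?_, fun h => by rw [h, mul_inv_cancel_right]⟩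
  exact mul_inv_eq_iff_eq_mul.1 (S.sylow_ext hreg P (hPn.conj_mem u hu l) hu h)

theorem conj_mem_zed {z : H} (hz : z ∈ (P : Subgroup H) ⊓ kern H B) (g : H) :
    g * z * g⁻¹ ∈ (P : Subgroup H) ⊓ kern H B :=
  ⟨hPn.conj_mem z hz.1 g, (inferInstance : (kern H B).Normal).conj_mem z hz.2 g⟩

theorem eq_one_of_centralizes {l : H} (hl : l ∈ stabilizer H b)
    (h : ∀ u ∈ (P : Subgroup H), l * u = u * l) : l = 1 := by
  apply FaithfulSMul.eq_of_smul_eq_smul (α := Y)
  intro y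
  obtain ⟨u, hu, rfl⟩ := S.exists_sylow_smul hreg P y
  rw [one_smul, S.fix_iff hreg P hPn hl hu]
  exact h u hu

/-- An element of a point stabiliser trivial on `Z` and on `P / Z` is trivial. -/
theorem eq_one_of_stabilizes {l : H} (hl : l ∈ stabilizer H b)
    (hZ : ∀ z ∈ (P : Subgroup H) ⊓ kern H B, l * z = z * l)
    (hQ : ∀ u ∈ (P : Subgroup H), l * u * l⁻¹ * u⁻¹ ∈ (P : Subgroup H) ⊓ kern H B) : l = 1 := by
  have hp := (Fact.out : p.Prime)
  refine S.eq_one_of_centralizes hreg P hPn hl fun u hu => ?_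
  obtain ⟨z, hz⟩ : ∃ z, z = l * u * l⁻¹ * u⁻¹ := ⟨_, rfl⟩
  have hzZ := hQ u hu
  rw [← hz] at hzZ
  have hlz := hZ z hzZ
  have hpow : ∀ n : ℕ, l ^ n * u = z ^ n * u * l ^ n := fun n => by
    induction n with
    | zero => simp
    | succ n ih =>
      calc l ^ (n + 1) * u = l * (l ^ n * u) := by rw [pow_succ', mul_assoc]
        _ = l * (z ^ n * u * l ^ n) := by rw [ih]
        _ = l * z ^ n * u * l ^ n := by simp only [mul_assoc]
        _ = z ^ n * l * u * l ^ n := by rw [((Commute.pow_right hlz n : Commute l (z ^ n))).eq]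
        _ = z ^ n * (z * u * l) * l ^ n := by
          rw [hz]; simp only [mul_assoc, inv_mul_cancel, mul_one]
        _ = z ^ (n + 1) * u * l ^ (n + 1) := by
          rw [pow_succ, pow_succ' l]; simp only [mul_assoc]
  have h1 := hpow (orderOf l)
  rw [pow_orderOf_eq_one, one_mul, mul_one, eq_comm, mul_eq_right] at h1
  have h2 : orderOf z ∣ p := S.card_zed hreg P ▸ Subgroup.orderOf_dvd_natCard _ hzZ
  have h3 : orderOf z ∣ Nat.card (stabilizer H b) :=
    (orderOf_dvd_of_pow_eq_one h1).trans (Subgroup.orderOf_dvd_natCard _ hl)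
  have hz1 : z = 1 := orderOf_eq_one_iff.1
    (Nat.eq_one_of_dvd_coprimes (hp.coprime_iff_not_dvd.2 hreg) h2 h3)
  rw [hz1, eq_comm, mul_inv_eq_one, mul_inv_eq_iff_eq_mul] at hz
  exact hz

theorem exists_mul_eq (D : Subgroup H) (hD : D ≤ P) (hDc : Nat.card D = p)
    (hDZ : D ⊓ ((P : Subgroup H) ⊓ kern H B) = ⊥) {u : H} (hu : u ∈ (P : Subgroup H)) :
    ∃ d ∈ D, ∃ z ∈ (P : Subgroup H) ⊓ kern H B, u = d * z := by
  set Z := (P : Subgroup H) ⊓ kern H B
  let f : D × Z → (P : Subgroup H) := fun q => ⟨(q.1 : H) * q.2, mul_mem (hD q.1.2) q.2.2.1⟩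
  have hf : Function.Injective f := fun q q' hqq => by
    have h : (q.1 : H) * q.2 = q'.1 * q'.2 := congrArg Subtype.val hqq
    have h1 : (q'.1 : H)⁻¹ * q.1 = q'.2 * (q.2 : H)⁻¹ := by
      rw [eq_mul_inv_iff_mul_eq, mul_assoc, h, inv_mul_cancel_left]
    have h2 : (q'.1 : H)⁻¹ * q.1 ∈ D ⊓ Z :=
      ⟨D.mul_mem (D.inv_mem q'.1.2) q.1.2, h1 ▸ Z.mul_mem q'.2.2 (Z.inv_mem q.2.2)⟩
    rw [hDZ, Subgroup.mem_bot, inv_mul_eq_one] at h2
    rw [h2] at h
    exact Prod.ext (Subtype.ext h2.symm) (Subtype.ext (mul_left_cancel h))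
  obtain ⟨q, hq⟩ := (hf.bijective_of_nat_card_le (by
    rw [Nat.card_prod, hDc, S.card_zed hreg P, S.card_sylow' hreg P, pow_two])).2 ⟨u, hu⟩
  exact ⟨q.1, q.1.2, q.2, q.2.2, (congrArg Subtype.val hq).symm⟩

/-- The fixed points in `P` of an element. -/
theorem fixedBy_eq {l : H} (hl : l ∈ stabilizer H b) :
    fixedBy Y l = (fun u : ↥((P : Subgroup H) ⊓ Subgroup.centralizer ({l} : Set H)) => (u : H) • b) ''
      Set.univ := by
  ext y
  obtain ⟨u, hu, rfl⟩ := S.exists_sylow_smul hreg P y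
  rw [mem_fixedBy, S.fix_iff hreg P hPn hl hu]
  refine ⟨fun h => ⟨⟨u, hu, Subgroup.mem_centralizer_singleton_iff.2 h.symm⟩, Set.mem_univ _, rfl⟩,
    fun ⟨v, _, hv⟩ => ?_⟩
  have := S.sylow_ext hreg P v.2.1 hu hv
  exact (Subgroup.mem_centralizer_singleton_iff.1 (this ▸ v.2.2)).symm

theorem centralizer_cases {l : H} (hl : l ∈ stabilizer H b) (h1 : l ≠ 1) :
    fixedBy Y l = {b} ∨ (Nat.card ↥((P : Subgroup H) ⊓ Subgroup.centralizer ({l} : Set H)) = p ∧
      (fixedBy Y l).ncard = p ∧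
      (((P : Subgroup H) ⊓ Subgroup.centralizer ({l} : Set H) = (P : Subgroup H) ⊓ kern H B ∧
        fixedBy Y l = B) ∨
      ((P : Subgroup H) ⊓ Subgroup.centralizer ({l} : Set H) ⊓ ((P : Subgroup H) ⊓ kern H B) = ⊥ ∧
        ∀ u ∈ (P : Subgroup H), l * u * l⁻¹ * u⁻¹ ∈ (P : Subgroup H) ⊓ kern H B))) := by
  have hp := (Fact.out : p.Prime)
  set D := (P : Subgroup H) ⊓ Subgroup.centralizer ({l} : Set H) with hD
  set Z := (P : Subgroup H) ⊓ kern H B with hZ
  have hd : Nat.card D ∣ p ^ 2 := S.card_sylow' hreg P ▸ Subgroup.card_dvd_of_le inf_le_left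
  obtain ⟨i, hi, hDi⟩ := (Nat.dvd_prime_pow hp).1 hd
  interval_cases i
  · left
    rw [S.fixedBy_eq hreg P hPn hl]
    rw [pow_zero, Subgroup.card_eq_one] at hDi
    ext y
    simp only [Set.mem_image, Set.mem_univ, true_and, Set.mem_singleton_iff]
    constructor
    · rintro ⟨⟨u, hu⟩, rfl⟩
      have : u ∈ D := hu
      rw [hDi, Subgroup.mem_bot] at this
      simp [this]
    · rintro rfl
      exact ⟨⟨1, one_mem _⟩, one_smul H _⟩
  · right
    rw [pow_one] at hDi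
    refine ⟨hDi, ?_, ?_⟩
    · rw [S.fixedBy_eq hreg P hPn hl, Set.ncard_image_of_injective _ fun u v h => Subtype.ext
        (S.sylow_ext hreg P u.2.1 v.2.1 h), Set.ncard_univ, hDi]
    have hdiv : Nat.card ↥(D ⊓ Z) ∣ p := hDi ▸ Subgroup.card_dvd_of_le inf_le_left
    rcases (Nat.dvd_prime hp).1 hdiv with h | h
    · right
      rw [Subgroup.card_eq_one] at h
      refine ⟨h, fun u hu => ?_⟩
      obtain ⟨d, hdD, z, hz, rfl⟩ := S.exists_mul_eq hreg P hPn D inf_le_left hDi h hu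
      have hdl : l * d = d * l := (Subgroup.mem_centralizer_singleton_iff.1 hdD.2).symm
      have hlz := S.conj_mem_zed hreg P hPn hz l
      have he : l * (d * z) * l⁻¹ * (d * z)⁻¹ = d * (l * z * l⁻¹ * z⁻¹) * d⁻¹ := by
        rw [← mul_assoc l d z, hdl]; group
      rw [he]
      have hc := mul_mem hlz (inv_mem hz)
      rw [S.sylow_comm hreg P hdD.1 hc.1, mul_inv_cancel_right]
      exact hc
    · left
      have e1 : D ⊓ Z = D := Subgroup.eq_of_le_of_card_ge inf_le_left (by rw [hDi, h])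
      have e2 : D ⊓ Z = Z := Subgroup.eq_of_le_of_card_ge inf_le_right (by
        rw [hZ, S.card_zed hreg P, h])
      have e : D = Z := e1.symm.trans e2
      refine ⟨e, ?_⟩
      rw [S.fixedBy_eq hreg P hPn hl]
      ext y
      rw [S.mem_block_iff hreg P]
      constructor
      · rintro ⟨u, -, rfl⟩
        exact ⟨u, (e ▸ (u.2 : (u : H) ∈ D) : (u : H) ∈ Z), rfl⟩
      · rintro ⟨z, hz, rfl⟩
        exact ⟨⟨z, (e.symm ▸ hz : z ∈ D)⟩, Set.mem_univ _, rfl⟩
  · exfalso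
    refine h1 (S.eq_one_of_centralizes hreg P hPn hl fun u hu => ?_)
    have e : D = (P : Subgroup H) :=
      Subgroup.eq_of_le_of_card_ge inf_le_left (by rw [hDi, S.card_sylow' hreg P])
    exact (Subgroup.mem_centralizer_singleton_iff.1 ((e.symm ▸ hu : u ∈ D)).2).symm

/-- Conjugation on a group of prime order commutes. -/
theorem conj_comm_zed {l m z : H} (hz : z ∈ (P : Subgroup H) ⊓ kern H B) :
    (l * m) * z * (l * m)⁻¹ = (m * l) * z * (m * l)⁻¹ := by
  have hpow : ∀ g : H, ∃ i : ℤ, g * z * g⁻¹ = z ^ i := by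
    intro g
    by_cases hz1 : z = 1
    · exact ⟨0, by simp [hz1]⟩
    have hgen : Subgroup.zpowers z = (P : Subgroup H) ⊓ kern H B := by
      refine Subgroup.eq_of_le_of_card_ge (Subgroup.zpowers_le.2 hz) ?_
      rw [S.card_zed hreg P, Nat.card_zpowers]
      rcases (Nat.dvd_prime (Fact.out : p.Prime)).1
        (S.card_zed hreg P ▸ Subgroup.orderOf_dvd_natCard _ hz) with h | h
      · exact absurd (orderOf_eq_one_iff.1 h) hz1
      · rw [h]
    obtain ⟨i, hi⟩ := Subgroup.mem_zpowers_iff.1 (hgen ▸ S.conj_mem_zed hreg P hPn hz g)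
    exact ⟨i, hi.symm⟩
  obtain ⟨i, hi⟩ := hpow l
  obtain ⟨j, hj⟩ := hpow m
  calc (l * m) * z * (l * m)⁻¹ = l * (m * z * m⁻¹) * l⁻¹ := by group
    _ = (z ^ i) ^ j := by rw [hj, ← hi, conj_zpow]
    _ = (z ^ j) ^ i := by rw [← zpow_mul, ← zpow_mul, mul_comm]
    _ = m * (l * z * l⁻¹) * m⁻¹ := by rw [hi, ← hj, conj_zpow]
    _ = (m * l) * z * (m * l)⁻¹ := by group

theorem inf_centralizer_eq {l m : H} (hl : l ∈ stabilizer H b) (hm : m ∈ stabilizer H b)
    (hlc : Nat.card ↥((P : Subgroup H) ⊓ Subgroup.centralizer ({l} : Set H)) = p)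
    (hmc : Nat.card ↥((P : Subgroup H) ⊓ Subgroup.centralizer ({m} : Set H)) = p)
    (hlb : (P : Subgroup H) ⊓ Subgroup.centralizer ({l} : Set H) ⊓ ((P : Subgroup H) ⊓ kern H B) = ⊥)
    (hl2 : ∀ u ∈ (P : Subgroup H), l * u * l⁻¹ * u⁻¹ ∈ (P : Subgroup H) ⊓ kern H B)
    (hm2 : ∀ u ∈ (P : Subgroup H), m * u * m⁻¹ * u⁻¹ ∈ (P : Subgroup H) ⊓ kern H B) :
    (P : Subgroup H) ⊓ Subgroup.centralizer ({l} : Set H) =
      (P : Subgroup H) ⊓ Subgroup.centralizer ({m} : Set H) := by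
  set Z := (P : Subgroup H) ⊓ kern H B
  -- the elements trivial on `P / Z`
  let R : Subgroup H :=
    { carrier := {g | ∀ u ∈ (P : Subgroup H), g * u * g⁻¹ * u⁻¹ ∈ Z}
      one_mem' := fun u _ => by simp
      mul_mem' := fun {x y} hx hy u hu => by
        have e : x * y * u * (x * y)⁻¹ * u⁻¹ =
            (x * (y * u * y⁻¹) * x⁻¹ * (y * u * y⁻¹)⁻¹) * (y * u * y⁻¹ * u⁻¹) := by group
        rw [e]; exact mul_mem (hx _ (hPn.conj_mem u hu y)) (hy u hu)
      inv_mem' := fun {x} hx u hu => by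
        have e : x⁻¹ * u * x⁻¹⁻¹ * u⁻¹ =
            (x * (x⁻¹ * u * x⁻¹⁻¹) * x⁻¹ * (x⁻¹ * u * x⁻¹⁻¹)⁻¹)⁻¹ := by group
        rw [e]; exact inv_mem (hx _ (hPn.conj_mem u hu x⁻¹)) }
  have hlR : l ∈ R := hl2
  have hmR : m ∈ R := hm2
  have hc : m * l = l * m := by
    have h := S.eq_one_of_stabilizes hreg P hPn (l := (l * m)⁻¹ * (m * l))
      (mul_mem (inv_mem (mul_mem hl hm)) (mul_mem hm hl)) (fun z hz => ?_)
      (mul_mem (inv_mem (mul_mem hlR hmR)) (mul_mem hmR hlR))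
    · exact (inv_mul_eq_one.1 h).symm
    · have h0 := S.conj_comm_zed hreg P hPn (l := m) (m := l) hz
      calc (l * m)⁻¹ * (m * l) * z
          = (l * m)⁻¹ * ((m * l) * z * (m * l)⁻¹) * (m * l) := by group
        _ = (l * m)⁻¹ * ((l * m) * z * (l * m)⁻¹) * (m * l) := by rw [h0]
        _ = z * ((l * m)⁻¹ * (m * l)) := by group
  refine Subgroup.eq_of_le_of_card_ge (fun d hd => ⟨hd.1, ?_⟩) (by rw [hlc, hmc])
  have hdl : d * l = l * d := Subgroup.mem_centralizer_singleton_iff.1 hd.2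
  have h1 : m * d * m⁻¹ ∈ (P : Subgroup H) ⊓ Subgroup.centralizer ({l} : Set H) :=
    ⟨hPn.conj_mem d hd.1 m, Subgroup.mem_centralizer_singleton_iff.2 (by
      calc m * d * m⁻¹ * l = m * d * (m⁻¹ * (l * m)) * m⁻¹ := by group
        _ = m * d * (m⁻¹ * (m * l)) * m⁻¹ := by rw [hc]
        _ = m * (d * l) * m⁻¹ := by group
        _ = m * (l * d) * m⁻¹ := by rw [hdl]
        _ = m * l * d * m⁻¹ := by group
        _ = l * m * d * m⁻¹ := by rw [hc]
        _ = l * (m * d * m⁻¹) := by group)⟩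
  have h2 : m * d * m⁻¹ * d⁻¹ ∈
      (P : Subgroup H) ⊓ Subgroup.centralizer ({l} : Set H) ⊓ Z :=
    ⟨Subgroup.mul_mem _ h1 (Subgroup.inv_mem _ hd), hm2 d hd.1⟩
  rw [hlb, Subgroup.mem_bot, mul_inv_eq_one, mul_inv_eq_iff_eq_mul] at h2
  exact Subgroup.mem_centralizer_singleton_iff.2 h2.symm

/-- A subgroup of the point stabiliser acting faithfully on `Z` has order less than `p`. -/
theorem card_le_of_zed_free {M : Subgroup H} (_hM : M ≤ stabilizer H b)
    (hfree : ∀ m ∈ M, (∀ z ∈ (P : Subgroup H) ⊓ kern H B, m * z = z * m) → m = 1) :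
    Nat.card M ≤ p - 1 := by
  classical
  set Z := (P : Subgroup H) ⊓ kern H B with hZdef
  have hZc : Nat.card Z = p := S.card_zed hreg P
  have : Nontrivial Z := Finite.one_lt_card_iff_nontrivial.1 (hZc.symm ▸ (Fact.out : p.Prime).one_lt)
  obtain ⟨z₀, hz₀⟩ := exists_ne (1 : Z)
  have hgen : Subgroup.zpowers (z₀ : H) = Z := by
    refine Subgroup.eq_of_le_of_card_ge (Subgroup.zpowers_le.2 z₀.2) ?_
    rw [Nat.card_zpowers, hZc]
    rcases (Nat.dvd_prime (Fact.out : p.Prime)).1 (hZc ▸ Subgroup.orderOf_dvd_natCard _ z₀.2) with h | h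
    · exact absurd (Subtype.ext (orderOf_eq_one_iff.1 h)) hz₀
    · rw [h]
  let f : M → {z : Z // z ≠ 1} := fun m =>
    ⟨⟨(m : H) * z₀ * (m : H)⁻¹, S.conj_mem_zed hreg P hPn z₀.2 m⟩, fun h => by
      have h' : (m : H) * z₀ * (m : H)⁻¹ = 1 := congrArg Subtype.val h
      rw [mul_inv_eq_one, mul_eq_left] at h'
      exact hz₀ (Subtype.ext h')⟩
  have hf : Function.Injective f := by
    intro m m' h
    have h' : (m : H) * z₀ * (m : H)⁻¹ = (m' : H) * z₀ * (m' : H)⁻¹ :=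
      congrArg (fun q : {z : Z // z ≠ 1} => ((q : Z) : H)) h
    refine Subtype.ext (inv_mul_eq_one.1 ?_)
    refine hfree _ (mul_mem (inv_mem m.2) m'.2) fun z hz => ?_
    rw [← hgen] at hz
    obtain ⟨i, rfl⟩ := Subgroup.mem_zpowers_iff.1 hz
    refine (Commute.zpow_right ?_ i).eq
    change (m : H)⁻¹ * m' * z₀ = z₀ * ((m : H)⁻¹ * m')
    calc (m : H)⁻¹ * m' * z₀ = (m : H)⁻¹ * ((m' : H) * z₀ * (m' : H)⁻¹) * m' := by group
      _ = (m : H)⁻¹ * ((m : H) * z₀ * (m : H)⁻¹) * m' := by rw [h']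
      _ = z₀ * ((m : H)⁻¹ * m') := by group
  have h5 := Nat.card_le_card_of_injective f hf
  have := Fintype.ofFinite Z
  rw [Nat.card_eq_fintype_card (α := {z : Z // z ≠ 1}), Fintype.card_subtype_compl,
    Fintype.card_subtype_eq, ← Nat.card_eq_fintype_card, hZc] at h5
  exact h5

/-- An element fixing `p` points has order less than `p`. -/
theorem orderOf_le {l : H} (hl : l ∈ stabilizer H b)
    (hD : (∀ z ∈ (P : Subgroup H) ⊓ kern H B, l * z = z * l) ∨
      ∀ u ∈ (P : Subgroup H), l * u * l⁻¹ * u⁻¹ ∈ (P : Subgroup H) ⊓ kern H B) :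
    orderOf l ≤ p - 1 := by
  classical
  have hp := (Fact.out : p.Prime)
  set Z := (P : Subgroup H) ⊓ kern H B with hZdef
  have hZc : Nat.card Z = p := S.card_zed hreg P
  rw [← Nat.card_zpowers]
  rcases hD with hD | hD
  · -- powers of `l` are determined by the image of a coset
    have hfix : ∀ m ∈ Subgroup.zpowers l, ∀ z ∈ Z, m * z = z * m := fun m hm z hz => by
      obtain ⟨i, rfl⟩ := Subgroup.mem_zpowers_iff.1 hm
      exact (Commute.zpow_left (hD z hz) i).eq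
    obtain ⟨u₀, hu₀, hu₀Z⟩ : ∃ u ∈ (P : Subgroup H), u ∉ Z := by
      by_contra h
      push Not at h
      have := Subgroup.card_le_of_le (H := (P : Subgroup H)) (K := Z) h
      rw [S.card_sylow' hreg P, hZc, pow_two] at this
      have := hp.two_le
      nlinarith
    have hZn : (Z.subgroupOf (P : Subgroup H)).Normal :=
      ⟨fun n hn g => Subgroup.mem_subgroupOf.2
        (S.conj_mem_zed hreg P hPn (Subgroup.mem_subgroupOf.1 hn) (g : H))⟩
    set Q := (P : Subgroup H) ⧸ Z.subgroupOf P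
    have hQ : Nat.card Q = p := by
      have h := (Z.subgroupOf (P : Subgroup H)).card_eq_card_quotient_mul_card_subgroup
      rw [S.card_sylow' hreg P, Nat.card_congr (Subgroup.subgroupOfEquivOfLe (inf_le_left : Z ≤ P)).toEquiv,
        hZc, pow_two] at h
      exact (Nat.eq_of_mul_eq_mul_right hp.pos h).symm
    let f : Subgroup.zpowers l → {q : Q // q ≠ 1} := fun m =>
      ⟨QuotientGroup.mk ⟨(m : H) * u₀ * (m : H)⁻¹, hPn.conj_mem u₀ hu₀ m⟩, fun h => by
        rw [QuotientGroup.eq_one_iff, Subgroup.mem_subgroupOf] at h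
        have := S.conj_mem_zed hreg P hPn h (m : H)⁻¹
        exact hu₀Z (by
          rw [show (m : H)⁻¹ * ((m : H) * u₀ * (m : H)⁻¹) * (m : H)⁻¹⁻¹ = u₀ by group] at this
          exact this)⟩
    have hf : Function.Injective f := by
      intro m m' h
      have h' := QuotientGroup.eq.1 (congrArg Subtype.val h)
      have hmem : ((m : H) * u₀ * (m : H)⁻¹)⁻¹ * ((m' : H) * u₀ * (m' : H)⁻¹) ∈ Z :=
        Subgroup.mem_subgroupOf.1 h'
      refine Subtype.ext (inv_mul_eq_one.1 ?_)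
      have hmm : (m : H)⁻¹ * m' ∈ Subgroup.zpowers l := mul_mem (inv_mem m.2) m'.2
      refine S.eq_one_of_stabilizes hreg P hPn (Subgroup.zpowers_le.2 hl hmm) (hfix _ hmm) fun u hu => ?_
      set k := (m : H)⁻¹ * m' with hk
      have h0 : u₀⁻¹ * (k * u₀ * k⁻¹) ∈ Z := by
        have := S.conj_mem_zed hreg P hPn hmem (m : H)⁻¹
        rw [show (m : H)⁻¹ * (((m : H) * u₀ * (m : H)⁻¹)⁻¹ * ((m' : H) * u₀ * (m' : H)⁻¹)) *
          (m : H)⁻¹⁻¹ = u₀⁻¹ * (k * u₀ * k⁻¹) by rw [hk]; group] at this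
        exact this
      -- elements moved into their own coset
      let M : Subgroup H :=
        { carrier := {v | v ∈ (P : Subgroup H) ∧ v⁻¹ * (k * v * k⁻¹) ∈ Z}
          one_mem' := ⟨one_mem _, by simp⟩
          mul_mem' := fun {v w} hv hw => ⟨mul_mem hv.1 hw.1, by
            have e : (v * w)⁻¹ * (k * (v * w) * k⁻¹) =
                (w⁻¹ * (v⁻¹ * (k * v * k⁻¹)) * w⁻¹⁻¹) * (w⁻¹ * (k * w * k⁻¹)) := by group
            rw [e]; exact mul_mem (S.conj_mem_zed hreg P hPn hv.2 _) hw.2⟩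
          inv_mem' := fun {v} hv => ⟨inv_mem hv.1, by
            have e : v⁻¹⁻¹ * (k * v⁻¹ * k⁻¹) = v * (v⁻¹ * (k * v * k⁻¹))⁻¹ * v⁻¹ := by group
            rw [e]; exact S.conj_mem_zed hreg P hPn (inv_mem hv.2) _⟩ }
      have hM1 : Z ≤ M := fun z hz => ⟨hz.1, mul_mem (inv_mem hz) (S.conj_mem_zed hreg P hPn hz k)⟩
      have hM2 : u₀ ∈ M := ⟨hu₀, h0⟩
      have hMP : M ≤ (P : Subgroup H) := fun v hv => hv.1
      have hM : M = (P : Subgroup H) := by
        refine Subgroup.eq_of_le_of_card_ge hMP ?_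
        obtain ⟨i, hi, hMi⟩ := (Nat.dvd_prime_pow hp).1
          (S.card_sylow' hreg P ▸ Subgroup.card_dvd_of_le hMP)
        rw [S.card_sylow' hreg P, hMi]
        refine Nat.pow_le_pow_right hp.pos ?_
        by_contra hi2
        have h3 : Nat.card M ≤ Nat.card Z := by
          rw [hMi, hZc]; exact (Nat.pow_le_pow_right hp.pos (by omega)).trans (pow_one p).le
        exact hu₀Z ((Subgroup.eq_of_le_of_card_ge hM1 h3).symm ▸ hM2)
      have h4 := ((hM.symm ▸ hu : u ∈ M)).2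
      have := S.conj_mem_zed hreg P hPn h4 u
      rw [show u * (u⁻¹ * (k * u * k⁻¹)) * u⁻¹ = k * u * k⁻¹ * u⁻¹ by group] at this
      exact this
    have h5 := Nat.card_le_card_of_injective f hf
    have := Fintype.ofFinite Q
    rw [Nat.card_eq_fintype_card (α := {q : Q // q ≠ 1}), Fintype.card_subtype_compl,
      Fintype.card_subtype_eq, ← Nat.card_eq_fintype_card, hQ] at h5
    exact h5
  · exact S.card_le_of_zed_free hreg P hPn (Subgroup.zpowers_le.2 hl) fun m hm h => by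
      refine S.eq_one_of_stabilizes hreg P hPn (Subgroup.zpowers_le.2 hl hm) h fun u hu => ?_
      obtain ⟨i, rfl⟩ := Subgroup.mem_zpowers_iff.1 hm
      let R : Subgroup H :=
        { carrier := {g | ∀ u ∈ (P : Subgroup H), g * u * g⁻¹ * u⁻¹ ∈ Z}
          one_mem' := fun u _ => by simp
          mul_mem' := fun {x y} hx hy u hu => by
            have e : x * y * u * (x * y)⁻¹ * u⁻¹ =
                (x * (y * u * y⁻¹) * x⁻¹ * (y * u * y⁻¹)⁻¹) * (y * u * y⁻¹ * u⁻¹) := by group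
            rw [e]; exact mul_mem (hx _ (hPn.conj_mem u hu y)) (hy u hu)
          inv_mem' := fun {x} hx u hu => by
            have e : x⁻¹ * u * x⁻¹⁻¹ * u⁻¹ =
                (x * (x⁻¹ * u * x⁻¹⁻¹) * x⁻¹ * (x⁻¹ * u * x⁻¹⁻¹)⁻¹)⁻¹ := by group
            rw [e]; exact inv_mem (hx _ (hPn.conj_mem u hu x⁻¹)) }
      exact (zpow_mem (show l ∈ R from hD) i) u hu

theorem normal_cases : ∃ T : Set Y,
    (∀ l ∈ stabilizer H b, l ≠ 1 → fixedBy Y l = {b} ∨
      ((fixedBy Y l = B ∨ fixedBy Y l = T) ∧ (fixedBy Y l).ncard = p ∧ orderOf l ≤ p - 1)) ∧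
    ∀ M : Subgroup H, M ≤ stabilizer H b → (∀ m ∈ M, m ≠ 1 → fixedBy Y m = {b}) →
      Nat.card M ≤ p - 1 := by
  have hbound : ∀ M : Subgroup H, M ≤ stabilizer H b → (∀ m ∈ M, m ≠ 1 → fixedBy Y m = {b}) →
      Nat.card M ≤ p - 1 := fun M hM hfix => S.card_le_of_zed_free hreg P hPn hM fun m hm hz => by
    by_contra hm1
    have hsub : B ⊆ fixedBy Y m := fun y hy => by
      obtain ⟨z, hz', rfl⟩ := (S.mem_block_iff hreg P).1 hy
      exact (S.fix_iff hreg P hPn (hM hm) hz'.1).2 (hz z hz')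
    have := (Set.ncard_le_ncard hsub (Set.toFinite _))
    rw [hfix m hm hm1, S.ncard, Set.ncard_singleton] at this
    exact absurd this (not_le.2 (Fact.out : p.Prime).one_lt)
  by_cases hex : ∃ l ∈ stabilizer H b, l ≠ 1 ∧
      Nat.card ↥((P : Subgroup H) ⊓ Subgroup.centralizer ({l} : Set H)) = p ∧
      (P : Subgroup H) ⊓ Subgroup.centralizer ({l} : Set H) ⊓ ((P : Subgroup H) ⊓ kern H B) = ⊥ ∧
      ∀ u ∈ (P : Subgroup H), l * u * l⁻¹ * u⁻¹ ∈ (P : Subgroup H) ⊓ kern H B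
  · obtain ⟨l₀, hl₀, -, hc₀, hb₀, h₀⟩ := hex
    refine ⟨fixedBy Y l₀, fun l hl hl1 => ?_, hbound⟩
    rcases S.centralizer_cases hreg P hPn hl hl1 with h | ⟨hc, hn, ⟨he, hB⟩ | ⟨hb', h'⟩⟩
    · exact Or.inl h
    · refine Or.inr ⟨Or.inl hB, hn, S.orderOf_le hreg P hPn hl (Or.inl fun z hz => ?_)⟩
      exact (Subgroup.mem_centralizer_singleton_iff.1 (he.symm ▸ hz : z ∈ (P : Subgroup H) ⊓ _).2).symm
    · refine Or.inr ⟨Or.inr ?_, hn, S.orderOf_le hreg P hPn hl (Or.inr h')⟩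
      rw [S.fixedBy_eq hreg P hPn hl, S.fixedBy_eq hreg P hPn hl₀,
        S.inf_centralizer_eq hreg P hPn hl hl₀ hc hc₀ hb' h' h₀]
  · refine ⟨B, fun l hl hl1 => ?_, hbound⟩
    rcases S.centralizer_cases hreg P hPn hl hl1 with h | ⟨hc, hn, ⟨he, hB⟩ | ⟨hb', h'⟩⟩
    · exact Or.inl h
    · refine Or.inr ⟨Or.inl hB, hn, S.orderOf_le hreg P hPn hl (Or.inl fun z hz => ?_)⟩
      exact (Subgroup.mem_centralizer_singleton_iff.1 (he.symm ▸ hz : z ∈ (P : Subgroup H) ⊓ _).2).symm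
    · exact absurd ⟨l, hl, hl1, hc, hb', h'⟩ hex

end Cfsg.Agent.SqPlusOne.Sys
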