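/-
Two-transitive groups of degree `p² + 1`, `p` odd, are doubly primitive.

* `no_imprimitive_stabilizer`
-/
import Cfsg.Agent.Lib.SqPlusOne.Lines
import Cfsg.Agent.Lib.SqPlusOne.Kernel
import Cfsg.Agent.Lib.SqPlusOne.FixedSets
import Cfsg.Agent.Lib.SqPlusOne.Normal
import Cfsg.Agent.Lib.SqPlusOne.Small

set_option autoImplicit false
set_option linter.unusedSectionVars false

namespace Cfsg.Agent.SqPlusOne

open MulAction Pointwise

variable {G Ω : Type*} [Group G] [MulAction G Ω] {p : ℕ}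

/-- Points fixed by a subgroup. -/
def fixedSet (Ω : Type*) [MulAction G Ω] (K : Subgroup G) : Set Ω :=
  {z | ∀ k ∈ K, k • z = z}

theorem smul_fixedSet (g : G) (K : Subgroup G) :
    g • fixedSet Ω K = fixedSet Ω (K.map (MulAut.conj g).toMonoidHom) := by
  ext z
  rw [Set.mem_smul_set_iff_inv_smul_mem]
  constructor
  · rintro h _ ⟨k, hk, rfl⟩
    have := h k hk
    simp only [MulEquiv.coe_toMonoidHom, MulAut.conj_apply, mul_smul]
    rw [this, smul_inv_smul]
  · intro h k hk
    have := h _ ⟨k, hk, rfl⟩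
    simp only [MulEquiv.coe_toMonoidHom, MulAut.conj_apply, mul_smul] at this
    rw [eq_inv_smul_iff, this]

theorem orbit_conj (g : G) (x y o : Ω) :
    orbit ↥(stabilizer G (g • x) ⊓ stabilizer G (g • y)) (g • o) =
      g • orbit ↥(stabilizer G x ⊓ stabilizer G y) o := by
  ext z
  constructor
  · rintro ⟨⟨u, hux, huy⟩, rfl⟩
    refine ⟨(g⁻¹ * u * g) • o, ⟨⟨g⁻¹ * u * g, ?_, ?_⟩, rfl⟩, ?_⟩
    · change (g⁻¹ * u * g) • x = x
      rw [mul_smul, mul_smul, show u • g • x = g • x from hux, inv_smul_smul]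
    · change (g⁻¹ * u * g) • y = y
      rw [mul_smul, mul_smul, show u • g • y = g • y from huy, inv_smul_smul]
    · simp only [mul_smul, smul_inv_smul]; rfl
  · rintro ⟨_, ⟨⟨u, hux, huy⟩, rfl⟩, rfl⟩
    refine ⟨⟨g * u * g⁻¹, ?_, ?_⟩, ?_⟩
    · change (g * u * g⁻¹) • g • x = g • x
      rw [mul_smul, mul_smul, inv_smul_smul, show u • x = x from hux]
    · change (g * u * g⁻¹) • g • y = g • y
      rw [mul_smul, mul_smul, inv_smul_smul, show u • y = y from huy]
    · change (g * u * g⁻¹) • g • o = g • u • o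
      rw [mul_smul, mul_smul, inv_smul_smul]

/-- The set of points of `Ω` coming from a set avoiding `a`, with `a` added. -/
def line (a : Ω) (A : Set ↥(SubMulAction.ofStabilizer G a)) : Set Ω :=
  insert a (Subtype.val '' A)

theorem coe_ne {a : Ω} (y : ↥(SubMulAction.ofStabilizer G a)) : (y : Ω) ≠ a :=
  (SubMulAction.mem_ofStabilizer_iff G a).1 y.2

theorem ncard_line [Finite Ω] {a : Ω} (A : Set ↥(SubMulAction.ofStabilizer G a)) :
    (line a A).ncard = A.ncard + 1 := by
  rw [line, Set.ncard_insert_of_notMem ?_ (Set.toFinite _),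
    Set.ncard_image_of_injective _ Subtype.val_injective]
  rintro ⟨y, -, hy⟩
  exact coe_ne y hy

theorem fixedSet_map_subtype {a : Ω} (K : Subgroup (stabilizer G a)) :
    fixedSet Ω (K.map (stabilizer G a).subtype) =
      line a (fixedPoints ↥K ↥(SubMulAction.ofStabilizer G a)) := by
  ext z
  constructor
  · intro h
    rcases eq_or_ne z a with rfl | hza
    · exact Set.mem_insert _ _
    · exact Set.mem_insert_of_mem _ ⟨⟨z, hza⟩, fun k => Subtype.ext (h _ ⟨k, k.2, rfl⟩), rfl⟩
  · rintro (rfl | ⟨y, hy, rfl⟩) _ ⟨k, hk, rfl⟩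
    · exact k.2
    · exact congrArg Subtype.val (hy ⟨k, hk⟩)

theorem map_subtype_stab {a : Ω} (b : ↥(SubMulAction.ofStabilizer G a)) :
    (stabilizer (stabilizer G a) b).map (stabilizer G a).subtype =
      stabilizer G a ⊓ stabilizer G (b : Ω) := by
  ext g
  constructor
  · rintro ⟨h, hh, rfl⟩
    exact ⟨h.2, congrArg Subtype.val (show h • b = b from hh)⟩
  · rintro ⟨ha, hb⟩
    exact ⟨⟨g, ha⟩, (Subtype.ext hb : (⟨g, ha⟩ : stabilizer G a) • b = b), rfl⟩

theorem orbit_pair {a : Ω} (c y : ↥(SubMulAction.ofStabilizer G a)) :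
    orbit ↥(stabilizer G a ⊓ stabilizer G (c : Ω)) (y : Ω) =
      Subtype.val '' orbit ↥(stabilizer (stabilizer G a) c) y := by
  ext z
  constructor
  · rintro ⟨⟨g, hga, hgc⟩, rfl⟩
    exact ⟨(⟨g, hga⟩ : stabilizer G a) • y,
      ⟨⟨⟨g, hga⟩, (Subtype.ext hgc : (⟨g, hga⟩ : stabilizer G a) • c = c)⟩, rfl⟩, rfl⟩
  · rintro ⟨_, ⟨⟨h, hh⟩, rfl⟩, rfl⟩
    exact ⟨⟨h, h.2, congrArg Subtype.val (show h • c = c from hh)⟩, rfl⟩

theorem fixedBy_coe {a : Ω} (h : stabilizer G a) :
    fixedBy Ω (h : G) = line a (fixedBy ↥(SubMulAction.ofStabilizer G a) h) := by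
  ext z
  constructor
  · intro hz
    rcases eq_or_ne z a with rfl | hza
    · exact Set.mem_insert _ _
    · exact Set.mem_insert_of_mem _ ⟨⟨z, hza⟩, Subtype.ext hz, rfl⟩
  · rintro (rfl | ⟨y, hy, rfl⟩)
    · exact h.2
    · exact congrArg Subtype.val hy

variable [Finite G] [Fintype Ω] [FaithfulSMul G Ω] [Fact p.Prime]

theorem faithful_ofStabilizer (a : Ω) :
    FaithfulSMul (stabilizer G a) ↥(SubMulAction.ofStabilizer G a) :=
  ⟨fun {g h} e => Subtype.ext (FaithfulSMul.eq_of_smul_eq_smul (α := Ω) fun z => by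
    rcases eq_or_ne z a with rfl | hz
    · exact g.2.trans h.2.symm
    · exact congrArg Subtype.val (e ⟨z, hz⟩))⟩

theorem no_imprimitive_stabilizer (hp2 : p ≠ 2) (hn : Fintype.card Ω = p ^ 2 + 1)
    (h2 : IsMultiplyPretransitive G Ω 2) (a : Ω)
    [IsPretransitive (stabilizer G a) ↥(SubMulAction.ofStabilizer G a)]
    {B : Set ↥(SubMulAction.ofStabilizer G a)} {b : ↥(SubMulAction.ofStabilizer G a)}
    (S : Sys (stabilizer G a) p B b) : False := by
  classical
  have hp := (Fact.out : p.Prime)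
  have hp3 : 3 ≤ p := by have := hp.two_le; omega
  have := faithful_ofStabilizer (G := G) a
  have hab : a ≠ (b : Ω) := (coe_ne b).symm
  obtain ⟨P⟩ : Nonempty (Sylow p (stabilizer G a)) := inferInstance
  set M := stabilizer G a ⊓ stabilizer G (b : Ω) with hM
  have hMcard : Nat.card M = Nat.card (stabilizer (stabilizer G a) b) := by
    rw [hM, ← map_subtype_stab, Subgroup.card_subtype]
  by_cases hreg : p ∣ Nat.card (stabilizer (stabilizer G a) b)
  · -- a Sylow subgroup of the two-point stabiliser gives a unique line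
    have hQ := S.card_inf_stab P
    have hne : stabilizer (stabilizer G a) b ⊓ (P : Subgroup (stabilizer G a)) ≠ ⊥ := fun h => by
      rw [h, Subgroup.card_bot] at hQ
      have h1 := hp.factorization_pos_of_dvd Nat.card_pos.ne' hreg
      exact absurd hQ (Nat.one_lt_pow h1.ne' hp.one_lt).ne
    have hfix := S.fixedPoints_sylow_stab P hne
    set Q := (stabilizer (stabilizer G a) b ⊓ (P : Subgroup (stabilizer G a))).map
      (stabilizer G a).subtype with hQdef
    have hL : fixedSet Ω Q = line a B := by rw [hQdef, fixedSet_map_subtype, hfix]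
    refine no_unique_line hp.two_le hn h2 hab (line a B) (Set.mem_insert _ _)
      (Set.mem_insert_of_mem _ ⟨b, S.mem, rfl⟩) (by rw [ncard_line, S.ncard]) fun g ha hb => ?_
    rw [← hL, smul_fixedSet] at ha hb ⊢
    set Q₁ := Q.map (MulAut.conj g).toMonoidHom
    have hQ1 : Q₁ ≤ M := fun k hk => ⟨ha k hk, hb k hk⟩
    have hQM : Q ≤ M := hM ▸ map_subtype_stab b ▸ Subgroup.map_mono inf_le_left
    have hc : ∀ K : Subgroup G, K ≤ M → Nat.card K = Nat.card Q →
        Nat.card (K.subgroupOf M) = p ^ (Nat.card M).factorization p := fun K hK hKc => by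
      rw [Nat.card_congr (Subgroup.subgroupOfEquivOfLe hK).toEquiv, hKc, hQdef, Subgroup.card_subtype,
        hQ, hMcard]
    obtain ⟨m, hm⟩ := exists_smul_eq M (Sylow.ofCard (Q.subgroupOf M) (hc Q hQM rfl))
      (Sylow.ofCard (Q₁.subgroupOf M) (hc Q₁ hQ1
        (Subgroup.card_map_of_injective (MulAut.conj g).injective)))
    have hQe : Q₁ = Q.map (MulAut.conj (m : G)).toMonoidHom := by
      have h := congrArg (fun R : Sylow p M => ((R : Subgroup M).map M.subtype)) hm
      simp only [Sylow.smul_def, Sylow.pointwise_smul_def, Sylow.coe_ofCard] at h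
      rw [Subgroup.map_subgroupOf_eq_of_le hQ1] at h
      rw [← h]
      ext z
      constructor
      · rintro ⟨_, ⟨w, hw, rfl⟩, rfl⟩
        exact ⟨w, hw, by simp⟩
      · rintro ⟨w, hw, rfl⟩
        exact ⟨_, ⟨⟨w, hQM hw⟩, hw, rfl⟩, by simp⟩
    rw [hQe, ← smul_fixedSet, hL]
    have hmB : (⟨(m : G), m.2.1⟩ : stabilizer G a) • B = B :=
      S.stab_le (Subtype.ext m.2.2 : (⟨(m : G), m.2.1⟩ : stabilizer G a) • b = b)
    rw [line, Set.smul_set_insert, show (m : G) • a = a from m.2.1]
    congr 1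
    conv_rhs => rw [← hmB]
    ext z
    simp only [Set.mem_smul_set, Set.mem_image]
    constructor
    · rintro ⟨_, ⟨y, hy, rfl⟩, rfl⟩
      exact ⟨_, ⟨y, hy, rfl⟩, rfl⟩
    · rintro ⟨_, ⟨y, hy, rfl⟩, rfl⟩
      exact ⟨_, ⟨y, hy, rfl⟩, rfl⟩
  by_cases hPn : (P : Subgroup (stabilizer G a)).Normal
  · obtain ⟨T, hT, hbound⟩ := S.normal_cases hreg P hPn
    -- elements of the two-point stabiliser with `p + 1` fixed points
    have hcases : ∀ g : G, g ≠ 1 → g • a = a → g • (b : Ω) = b →
        fixedBy Ω g = line a {b} ∨ ((fixedBy Ω g = line a B ∨ fixedBy Ω g = line a T) ∧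
          (fixedBy Ω g).ncard = p + 1 ∧ orderOf g ≤ p - 1) := by
      intro g hg hga hgb
      rcases hT ⟨g, hga⟩ (Subtype.ext hgb : (⟨g, hga⟩ : stabilizer G a) • b = b)
        (fun h => hg (congrArg Subtype.val h)) with h | ⟨h, hc, ho⟩
      · left; rw [← h]; exact fixedBy_coe ⟨g, hga⟩
      · refine Or.inr ⟨h.imp (fun h => by rw [← h]; exact fixedBy_coe ⟨g, hga⟩)
          (fun h => by rw [← h]; exact fixedBy_coe ⟨g, hga⟩), ?_, ?_⟩
        · rw [fixedBy_coe ⟨g, hga⟩, ncard_line, hc]
        · exact (Subgroup.orderOf_mk g hga).ge.trans ho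
    have hP1 : ∀ u ∈ (P : Subgroup (stabilizer G a)), u ≠ 1 → ∀ c : Ω, (u : G) • c = c → c = a := by
      intro u hu hu1 c hc
      by_contra hca
      exact hu1 (S.sylow_free hreg P hu (y := ⟨c, hca⟩) (Subtype.ext hc))
    set Pg := (P : Subgroup (stabilizer G a)).map (stabilizer G a).subtype with hPg
    have hPga : Pg ≤ stabilizer G a := Subgroup.map_subtype_le _
    have hPgc : Nat.card Pg = p ^ 2 := by
      rw [hPg, Subgroup.card_subtype, S.card_sylow' hreg P]
    -- a subgroup containing `Pg` in which the two-point stabiliser moves everything else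
    have hfinish : ∀ N : Subgroup G, Pg ≤ N → IsPretransitive N Ω →
        (∀ g ∈ N, g • a = a → g • (b : Ω) = b → g ≠ 1 → fixedBy Ω g = line a {b}) →
        (∃ g ∈ N, g ≠ 1 ∧ g • a = a ∧ g • (b : Ω) = b) → False := by
      intro N hPN hNt hNfix hNne
      have h2N : IsMultiplyPretransitive N Ω 2 := by
        refine is_two_pretransitive_iff.2 fun {x y x' y'} hxy hxy' => ?_
        have hone : ∀ x y : Ω, x ≠ y → ∃ g : N, g • x = a ∧ g • y = (b : Ω) := by
          intro x y hxy
          obtain ⟨g, hg⟩ := exists_smul_eq N x a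
          have hgy : g • y ≠ a := fun h => hxy (smul_left_cancel g (hg.trans h.symm))
          obtain ⟨u, hu, hu'⟩ := S.exists_sylow_smul hreg P ⟨g • y, hgy⟩
          refine ⟨⟨(u : G)⁻¹, inv_mem (hPN ⟨u, hu, rfl⟩)⟩ * g, ?_, ?_⟩
          · rw [mul_smul, hg]
            change (u : G)⁻¹ • a = a
            exact inv_smul_eq_iff.2 u.2.symm
          · rw [mul_smul]
            change (u : G)⁻¹ • (g • y) = b
            exact inv_smul_eq_iff.2 (congrArg Subtype.val hu').symm
        obtain ⟨g, hgx, hgy⟩ := hone x y hxy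
        obtain ⟨g', hgx', hgy'⟩ := hone x' y' hxy'
        exact ⟨g'⁻¹ * g, by rw [mul_smul, hgx, ← hgx', inv_smul_smul],
          by rw [mul_smul, hgy, ← hgy', inv_smul_smul]⟩
      have : FaithfulSMul N Ω := ⟨fun {g h} e => Subtype.ext (FaithfulSMul.eq_of_smul_eq_smul e)⟩
      refine not_zassenhaus (G := N) hp hp2 hn h2N hab (Pg.subgroupOf N)
        (fun u hu => hPga (Subgroup.mem_subgroupOf.1 hu))
        (by rw [Nat.card_congr (Subgroup.subgroupOfEquivOfLe hPN).toEquiv, hPgc]) ?_ ?_ ?_ ?_ ?_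
      · rintro u ⟨v, hv, hv'⟩ w ⟨x, hx, hx'⟩
        refine Subtype.ext ?_
        change (u : G) * (w : G) = (w : G) * (u : G)
        rw [show (u : G) = (v : G) from hv'.symm, show (w : G) = (x : G) from hx'.symm]
        exact congrArg Subtype.val (S.sylow_comm hreg P hv hx)
      · rintro u ⟨v, hv, hv'⟩ hu c hc
        refine hP1 v hv (fun h => hu (Subtype.ext ?_)) c ?_
        · rw [OneMemClass.coe_one, show (u : G) = (v : G) from hv'.symm, h]; rfl
        · rw [show (v : G) = (u : G) from hv']; exact hc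
      · obtain ⟨g, hg, hg1, hga, hgb⟩ := hNne
        exact ⟨⟨g, hg⟩, fun h => hg1 (congrArg Subtype.val h), hga, hgb⟩
      · intro g hga hgb hg c hc
        have h := hNfix g g.2 hga hgb (fun h => hg (Subtype.ext h))
        have h' : c ∈ fixedBy Ω (g : G) := hc
        rw [h, line, Set.image_singleton] at h'
        exact h'
      · let f : ↥(stabilizer N a ⊓ stabilizer N (b : Ω)) →* stabilizer G a :=
          { toFun := fun u => ⟨((u : N) : G), u.2.1⟩
            map_one' := rfl
            map_mul' := fun _ _ => rfl }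
        have hf : Function.Injective f := fun u v h =>
          Subtype.ext (Subtype.ext (congrArg (fun z : stabilizer G a => (z : G)) h))
        rw [Nat.card_congr (MonoidHom.ofInjective hf).toEquiv]
        refine hbound f.range ?_ ?_
        · rintro _ ⟨u, rfl⟩
          exact (Subtype.ext u.2.2 : f u • b = b)
        · rintro _ ⟨u, rfl⟩ hu
          have h := hNfix _ (u : N).2 u.2.1 u.2.2 (fun e => hu (Subtype.ext e))
          have h' := fixedBy_coe (f u)
          rw [show ((f u : stabilizer G a) : G) = ((u : N) : G) from rfl, h] at h'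
          refine Set.image_injective.2 Subtype.val_injective ?_
          ext z
          have hz := Set.ext_iff.1 h' z
          simp only [line, Set.mem_insert_iff] at hz
          constructor
          · intro h3
            exact (hz.2 (Or.inr h3)).resolve_left fun e => by
              obtain ⟨y, -, hy⟩ := h3; exact coe_ne y (hy.trans e)
          · intro h3
            exact (hz.1 (Or.inr h3)).resolve_left fun e => by
              obtain ⟨y, -, hy⟩ := h3; exact coe_ne y (hy.trans e)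
    by_cases hex : ∃ g : G, g ≠ 1 ∧ g • a = a ∧ g • (b : Ω) = b ∧ (fixedBy Ω g).ncard = p + 1
    · obtain ⟨g₀, hg₀, hg₀a, hg₀b, hg₀c⟩ := hex
      let E := ({line a B, line a T} : Finset (Set Ω)).filter fun L =>
        ∃ g : G, g ≠ 1 ∧ g • a = a ∧ g • (b : Ω) = b ∧ (fixedBy Ω g).ncard = p + 1 ∧ fixedBy Ω g = L
      obtain ⟨l, hl, hle, hd⟩ := exists_dvd_of_invariant (G := G) hp.pos hn h2
        (fun L => ∃ g : G, g ≠ 1 ∧ (fixedBy Ω g).ncard = p + 1 ∧ fixedBy Ω g = L)
        (fun u L ⟨g, hg, hgc, hgL⟩ => by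
          have e : fixedBy Ω (u * g * u⁻¹) = u • fixedBy Ω g := by rw [smul_fixedBy]
          exact ⟨u * g * u⁻¹, by simpa using hg, by rw [e, Set.ncard_smul_set, hgc], by rw [e, hgL]⟩)
        (fun L ⟨g, _, hgc, hgL⟩ => hgL ▸ hgc) hab (E := E)
        (fun L ⟨g, hg, hgc, hgL⟩ ha hb => by
          subst hgL
          have hga : g • a = a := ha
          have hgb : g • (b : Ω) = b := hb
          refine Finset.mem_filter.2 ⟨?_, g, hg, hga, hgb, hgc, rfl⟩
          rcases hcases g hg hga hgb with h | ⟨h, -, -⟩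
          · rw [h, ncard_line, Set.ncard_singleton] at hgc; omega
          · simpa using h)
        ⟨fixedBy Ω g₀, ⟨g₀, hg₀, hg₀c, rfl⟩, hg₀a, hg₀b⟩
      have hE : E.card ≤ 2 := (Finset.card_filter_le _ _).trans Finset.card_le_two
      have hd' := Nat.le_of_dvd (by omega) hd
      have hp33 : p = 3 := by omega
      subst hp33
      obtain ⟨L₁, hL₁, L₂, hL₂, hL12⟩ := Finset.one_lt_card.1 (show 1 < E.card by omega)
      obtain ⟨g₁, hg₁, hg₁a, hg₁b, hg₁c, rfl⟩ := (Finset.mem_filter.1 hL₁).2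
      obtain ⟨g₂, hg₂, hg₂a, hg₂b, hg₂c, rfl⟩ := (Finset.mem_filter.1 hL₂).2
      let f : G →* ℤˣ := Equiv.Perm.sign.comp (MulAction.toPermHom G Ω)
      have hodd : ∀ g : G, g ≠ 1 → g • a = a → g • (b : Ω) = b → (fixedBy Ω g).ncard = 4 →
          orderOf g = 2 ∧ f g = -1 := by
        intro g hg hga hgb hgc
        have ho : orderOf g = 2 := by
          rcases hcases g hg hga hgb with h | ⟨-, -, ho⟩
          · rw [h, ncard_line, Set.ncard_singleton] at hgc; omega
          · have h0 := orderOf_pos g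
            have h1 : orderOf g ≠ 1 := fun e => hg (orderOf_eq_one_iff.1 e)
            omega
        refine ⟨ho, ?_⟩
        change Equiv.Perm.sign (MulAction.toPermHom G Ω g) = -1
        rw [sign_of_fixed ho, hn, hgc]
        norm_num
      obtain ⟨ho₁, hf₁⟩ := hodd g₁ hg₁ hg₁a hg₁b hg₁c
      obtain ⟨-, hf₂⟩ := hodd g₂ hg₂ hg₂a hg₂b hg₂c
      have hPker : Pg ≤ f.ker := fun u hu => by
        have h1 : u ^ 9 = 1 := orderOf_dvd_iff_pow_eq_one.1 (by
          have := Subgroup.orderOf_dvd_natCard _ hu; rwa [hPgc] at this)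
        have h2' : f u ^ 9 = 1 := by rw [← map_pow, h1, map_one]
        rw [MonoidHom.mem_ker]
        rcases Int.units_eq_one_or (f u) with h | h
        · exact h
        · rw [h] at h2'; exact absurd h2' (by decide)
      have hker : f.ker ≠ ⊥ := fun h => by
        have := Subgroup.card_le_of_le hPker
        rw [h, Subgroup.card_bot, hPgc] at this
        omega
      have : IsPreprimitive G Ω := isPreprimitive_of_is_two_pretransitive h2
      refine hfinish f.ker hPker (Perm.isPretransitive_of_normal_ne_bot hker) ?_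
        ⟨g₁ * g₂, by rw [MonoidHom.mem_ker, map_mul, hf₁, hf₂]; decide, fun h => hL12 ?_,
          by rw [mul_smul, hg₂a, hg₁a], by rw [mul_smul, hg₂b, hg₁b]⟩
      · intro g hg hga hgb hg1
        rcases hcases g hg1 hga hgb with h | ⟨-, hc, -⟩
        · exact h
        · exact absurd ((MonoidHom.mem_ker.1 hg).symm.trans (hodd g hg1 hga hgb hc).2) (by decide)
      · have h12 : g₂ = g₁⁻¹ := eq_inv_of_mul_eq_one_right h
        rw [h12, fixedBy_inv]
    · push Not at hex
      by_cases hne : ∃ g : G, g ≠ 1 ∧ g • a = a ∧ g • (b : Ω) = b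
      · obtain ⟨g, hg, hga, hgb⟩ := hne
        have : IsPretransitive G Ω :=
          (isPreprimitive_of_is_two_pretransitive h2).toIsPretransitive
        refine hfinish ⊤ le_top ⟨fun x y => ?_⟩ (fun g _ hga hgb hg1 =>
          (hcases g hg1 hga hgb).resolve_right fun h => hex g hg1 hga hgb h.2.1)
          ⟨g, trivial, hg, hga, hgb⟩
        obtain ⟨u, hu⟩ := exists_smul_eq G x y
        exact ⟨⟨u, trivial⟩, hu⟩
      · push Not at hne
        refine two_point_trivial hp hp2 hn h2 hab ?_ fun g hga hgb => by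
          by_contra hg; exact hne g hg hga hgb
        rw [S.card_eq, Nat.mul_eq_left (pow_ne_zero _ hp.ne_zero), Subgroup.card_eq_one,
          Subgroup.eq_bot_iff_forall]
        intro h hh
        by_contra h1
        exact hne h (fun e => h1 (Subtype.ext e)) h.2 (congrArg Subtype.val (show h • b = b from hh))
  -- the Sylow subgroup is not normal
  obtain ⟨B', S', hZ⟩ := S.exists_sys_not_normal hreg P hPn
  obtain ⟨hp5, htt⟩ := S'.two_trans_block hreg P hp2 hZ
  obtain ⟨T, hTc, hbT, hcase⟩ := S'.kernel_cases hreg P hp2 htt hp5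
  rcases hcase with hF | ⟨⟨y₁, hy₁b, hy₁c⟩, horb⟩
  · -- the fixed set of the two-point stabiliser
    have hL : fixedSet Ω M = line a T := by
      rw [hM, ← map_subtype_stab, fixedSet_map_subtype, hF]
    refine no_unique_line hp.two_le hn h2 hab (line a T) (Set.mem_insert _ _)
      (Set.mem_insert_of_mem _ ⟨b, hbT, rfl⟩) (by rw [ncard_line, hTc]) fun g ha hb => ?_
    rw [← hL, smul_fixedSet] at ha hb ⊢
    rw [Subgroup.eq_of_le_of_card_ge (fun k hk => ⟨ha k hk, hb k hk⟩ : M.map (MulAut.conj g).toMonoidHom ≤ M)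
      (Subgroup.card_map_of_injective (MulAut.conj g).injective).ge]
  -- orbits of length `p - 1`
  let R : Ω → Ω → Set Ω → Prop := fun x y L => x ≠ y ∧ ∃ o, o ≠ x ∧ o ≠ y ∧
    (orbit ↥(stabilizer G x ⊓ stabilizer G y) o).ncard = p - 1 ∧
    L = insert x (insert y (orbit ↥(stabilizer G x ⊓ stabilizer G y) o))
  have hnot : ∀ x y o : Ω, o ≠ x → o ≠ y →
      x ∉ orbit ↥(stabilizer G x ⊓ stabilizer G y) o ∧ y ∉ orbit ↥(stabilizer G x ⊓ stabilizer G y) o :=
    fun x y o hox hoy =>
      ⟨fun ⟨⟨u, hu⟩, h⟩ => hox (smul_left_cancel u (h.trans hu.1.symm)),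
        fun ⟨⟨u, hu⟩, h⟩ => hoy (smul_left_cancel u (h.trans hu.2.symm))⟩
  have hline : ∀ (c y' : ↥(SubMulAction.ofStabilizer G a)),
      insert a (insert (c : Ω) (orbit ↥(stabilizer G a ⊓ stabilizer G (c : Ω)) (y' : Ω))) =
        line a (insert c (orbit ↥(stabilizer (stabilizer G a) c) y')) := fun c y' => by
    rw [orbit_pair, line, Set.image_insert_eq]
  have hsmall := line_family_small (G := G) hp.two_le hn h2 hab R ?_ ?_ ?_ ?_ ?_
    (E := {line a B', line a T}) ?_ Finset.card_le_two ?_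
  · omega
  · rintro g x y L ⟨hxy, o, hox, hoy, hc, rfl⟩
    refine ⟨by simpa using hxy, g • o, by simpa using hox, by simpa using hoy, ?_, ?_⟩
    · rw [orbit_conj, Set.ncard_smul_set, hc]
    · rw [orbit_conj, Set.smul_set_insert, Set.smul_set_insert]
  · rintro x y L ⟨hxy, o, hox, hoy, hc, rfl⟩
    refine ⟨hxy.symm, o, hoy, hox, ?_, ?_⟩
    · rw [inf_comm]; exact hc
    · rw [inf_comm, Set.insert_comm]
  · rintro x y L ⟨hxy, o, hox, hoy, hc, rfl⟩
    rw [Set.ncard_insert_of_notMem ?_ (Set.toFinite _),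
      Set.ncard_insert_of_notMem (hnot x y o hox hoy).2 (Set.toFinite _), hc]
    · omega
    · rw [Set.mem_insert_iff, not_or]; exact ⟨hxy, (hnot x y o hox hoy).1⟩
  · rintro x y L ⟨_, o, _, _, _, rfl⟩
    exact ⟨Set.mem_insert _ _, Set.mem_insert_of_mem _ (Set.mem_insert _ _)⟩
  · rintro L ⟨hab', o, hoa, hob, hc, rfl⟩ c hc' hca
    rcases hc' with rfl | hcb | hcO
    · exact absurd rfl hca
    · rw [hcb]; exact ⟨hab', o, hoa, hob, hc, rfl⟩
    · obtain ⟨y, rfl⟩ : ∃ y : ↥(SubMulAction.ofStabilizer G a), (y : Ω) = o := ⟨⟨o, hoa⟩, rfl⟩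
      have hc2 := hc
      rw [orbit_pair, Set.ncard_image_of_injective _ Subtype.val_injective] at hc2
      obtain ⟨-, hnext⟩ := horb y (fun h => hob (congrArg Subtype.val h)) hc2
      rw [orbit_pair] at hcO
      obtain ⟨c', hc'', rfl⟩ := hcO
      obtain ⟨y', hy'c, hy'n, he⟩ := hnext c' hc''
      refine ⟨hca.symm, y', coe_ne y', fun h => hy'c (Subtype.ext h), ?_, ?_⟩
      · rw [orbit_pair, Set.ncard_image_of_injective _ Subtype.val_injective, hy'n]
      · rw [hline, hline, he]
  · rintro L ⟨_, o, hoa, hob, hc, rfl⟩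
    obtain ⟨y, rfl⟩ : ∃ y : ↥(SubMulAction.ofStabilizer G a), (y : Ω) = o := ⟨⟨o, hoa⟩, rfl⟩
    have hc2 := hc
    rw [orbit_pair, Set.ncard_image_of_injective _ Subtype.val_injective] at hc2
    obtain ⟨h, -⟩ := horb y (fun h => hob (congrArg Subtype.val h)) hc2
    rw [Finset.mem_insert, Finset.mem_singleton, hline]
    exact h.imp (congrArg (line a)) (congrArg (line a))
  · refine ⟨_, hab, y₁, coe_ne y₁, fun h => hy₁b (Subtype.ext h), ?_, rfl⟩
    rw [orbit_pair, Set.ncard_image_of_injective _ Subtype.val_injective, hy₁c]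

end Cfsg.Agent.SqPlusOne
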