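/-
Two-transitive groups of degree five with an imprimitive point stabiliser.

* `card_eq_twenty`
-/
import Cfsg.Agent.Lib.SqPlusOne.Main

set_option autoImplicit false
set_option linter.unusedSectionVars false

namespace Cfsg.Agent.SqPlusOne

open MulAction Pointwise

variable {G Ω : Type*} [Group G] [Finite G] [MulAction G Ω] [Fintype Ω] [FaithfulSMul G Ω]

theorem card_eq_twenty (hn : Fintype.card Ω = 5) (h2 : IsMultiplyPretransitive G Ω 2) (a : Ω)
    [IsPretransitive (stabilizer G a) ↥(SubMulAction.ofStabilizer G a)]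
    {B : Set ↥(SubMulAction.ofStabilizer G a)} {b : ↥(SubMulAction.ofStabilizer G a)}
    (S : Sys (stabilizer G a) 2 B b) : Nat.card G = 20 := by
  have := faithful_ofStabilizer (G := G) a
  have : IsPretransitive G Ω := (isPreprimitive_of_is_two_pretransitive h2).toIsPretransitive
  set H := stabilizer G a
  have hG : Nat.card G = 5 * Nat.card H := by
    rw [← (stabilizer G a).index_mul_card, index_stabilizer_of_transitive, Nat.card_eq_fintype_card, hn]
  have h24 : Nat.card H ∣ 24 := by
    have h := Subgroup.card_dvd_of_injective (MulAction.toPermHom H ↥(SubMulAction.ofStabilizer G a))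
      MulAction.toPerm_injective
    rw [Nat.card_perm, S.card] at h
    exact h
  have h4 : 4 ∣ Nat.card H := ⟨_, S.card_eq⟩
  -- no element of order three
  have hthree : ¬ 3 ∣ Nat.card H := by
    intro h3
    have : Fact (Nat.Prime 3) := ⟨Nat.prime_three⟩
    obtain ⟨x, hx⟩ := exists_prime_orderOf_dvd_card' 3 h3
    have hblk : ∀ g : H, x • g • B = g • B := by
      intro g
      have hsub : orbit (Subgroup.zpowers x) (g • B) ⊆ orbit H B := by
        rintro _ ⟨u, rfl⟩; exact ⟨(u : H) * g, mul_smul _ _ _⟩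
      have hc : (orbit (Subgroup.zpowers x) (g • B)).ncard ∣ 3 := by
        rw [← index_stabilizer, ← hx, ← Nat.card_zpowers]; exact Subgroup.index_dvd_card _
      have h := S.block.ncard_block_mul_ncard_orbit_eq S.ne
      rw [S.ncard, S.card] at h
      norm_num at h
      replace h : 2 * (orbit H B).ncard = 4 := h
      have := Set.ncard_le_ncard hsub (Set.toFinite _)
      have h1 : (orbit (Subgroup.zpowers x) (g • B)).ncard = 1 := by
        rcases (Nat.dvd_prime Nat.prime_three).1 hc with h1 | h1 <;> omega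
      obtain ⟨C, hC⟩ := Set.ncard_eq_one.1 h1
      have e1 : (⟨x, Subgroup.mem_zpowers x⟩ : Subgroup.zpowers x) • (g • B) ∈
          orbit (Subgroup.zpowers x) (g • B) := mem_orbit _ _
      have e2 := mem_orbit_self (M := Subgroup.zpowers x) (g • B)
      rw [hC, Set.mem_singleton_iff] at e1 e2
      exact e1.trans e2.symm
    have hx1 : x = 1 := by
      apply FaithfulSMul.eq_of_smul_eq_smul (α := ↥(SubMulAction.ofStabilizer G a))
      intro y
      obtain ⟨g, -, hg⟩ := S.exists_mem_smul y
      have hfix : ∀ u : Subgroup.zpowers x, (u : H) • g • B = g • B := by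
        rintro ⟨u, hu⟩
        exact Subgroup.zpowers_le.2 (show x ∈ stabilizer H (g • B) from hblk g) hu
      have hsub : orbit (Subgroup.zpowers x) y ⊆ g • B := by
        rintro _ ⟨u, rfl⟩; rw [← hfix u]; exact Set.smul_mem_smul_set hg
      have hc : (orbit (Subgroup.zpowers x) y).ncard ∣ 3 := by
        rw [← index_stabilizer, ← hx, ← Nat.card_zpowers]; exact Subgroup.index_dvd_card _
      have := Set.ncard_le_ncard hsub (Set.toFinite _)
      rw [Set.ncard_smul_set, S.ncard] at this
      have h1 : (orbit (Subgroup.zpowers x) y).ncard = 1 := by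
        rcases (Nat.dvd_prime Nat.prime_three).1 hc with h1 | h1 <;> omega
      obtain ⟨C, hC⟩ := Set.ncard_eq_one.1 h1
      have e1 : (⟨x, Subgroup.mem_zpowers x⟩ : Subgroup.zpowers x) • y ∈
          orbit (Subgroup.zpowers x) y := mem_orbit _ _
      have e2 := mem_orbit_self (M := Subgroup.zpowers x) y
      rw [hC, Set.mem_singleton_iff] at e1 e2
      rw [one_smul]
      exact e1.trans e2.symm
    rw [hx1, orderOf_one] at hx
    omega
  -- the Sylow 5-subgroup is normal, so the stabiliser embeds in its automorphisms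
  have : Fact (Nat.Prime 5) := ⟨by norm_num⟩
  have h8 : Nat.card H = 4 ∨ Nat.card H = 8 := by
    have := Nat.le_of_dvd (by norm_num) h24
    interval_cases h : Nat.card H <;> omega
  obtain ⟨Q⟩ : Nonempty (Sylow 5 G) := inferInstance
  have hQc : Nat.card (Q : Subgroup G) = 5 := by
    rw [Q.card_eq_multiplicity, hG, Nat.factorization_mul (by norm_num) Nat.card_pos.ne', Finsupp.add_apply,
      Nat.Prime.factorization_self (by norm_num : Nat.Prime 5),
      Nat.factorization_eq_zero_of_not_dvd (by omega)]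
    norm_num
  have hQi : (Q : Subgroup G).index = Nat.card H := by
    have := (Q : Subgroup G).index_mul_card
    rw [hQc, hG] at this
    omega
  have hone : Nat.card (Sylow 5 G) = 1 := by
    have h1 := card_sylow_modEq_one 5 G
    have h2' := Q.card_dvd_index
    rw [hQi] at h2'
    unfold Nat.ModEq at h1
    have := Nat.le_of_dvd Nat.card_pos h2'
    rcases h8 with h | h <;> rw [h] at h2' this <;>
      interval_cases h' : Nat.card (Sylow 5 G) <;> omega
  have hQn : (Q : Subgroup G).Normal := by
    have : Subsingleton (Sylow 5 G) := (Nat.card_eq_one_iff_unique.1 hone).1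
    exact Sylow.normal_of_subsingleton Q
  have hQ : Nat.card (Q : Subgroup G) = 5 := hQc
  have : IsPreprimitive G Ω := isPreprimitive_of_is_two_pretransitive h2
  have : IsPretransitive (Q : Subgroup G) Ω := Perm.isPretransitive_of_normal_ne_bot fun h => by
    rw [h, Subgroup.card_bot] at hQ; omega
  have : Nontrivial (Q : Subgroup G) := Finite.one_lt_card_iff_nontrivial.1 (by omega)
  obtain ⟨q₀, hq₀⟩ := exists_ne (1 : (Q : Subgroup G))
  have hgen : Subgroup.zpowers (q₀ : G) = (Q : Subgroup G) := by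
    refine Subgroup.eq_of_le_of_card_ge (Subgroup.zpowers_le.2 q₀.2) ?_
    rw [Nat.card_zpowers, hQ]
    rcases (Nat.dvd_prime (by norm_num : Nat.Prime 5)).1
      (hQ ▸ Subgroup.orderOf_dvd_natCard _ q₀.2) with h | h
    · exact absurd (Subtype.ext (orderOf_eq_one_iff.1 h)) hq₀
    · rw [h]
  classical
  let f : H → {q : (Q : Subgroup G) // q ≠ 1} := fun h =>
    ⟨⟨(h : G) * q₀ * (h : G)⁻¹, hQn.conj_mem q₀ q₀.2 h⟩, fun e => by
      have e' : (h : G) * q₀ * (h : G)⁻¹ = 1 := congrArg Subtype.val e
      rw [conj_eq_one_iff] at e'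
      exact hq₀ (Subtype.ext e')⟩
  have hf : Function.Injective f := by
    intro h k e
    have e' : (h : G) * q₀ * (h : G)⁻¹ = (k : G) * q₀ * (k : G)⁻¹ :=
      congrArg (fun z : {q : (Q : Subgroup G) // q ≠ 1} => ((z : (Q : Subgroup G)) : G)) e
    refine Subtype.ext (inv_mul_eq_one.1 ?_)
    have hc : Commute ((h : G)⁻¹ * k) q₀ := by
      change (h : G)⁻¹ * k * q₀ = q₀ * ((h : G)⁻¹ * k)
      calc (h : G)⁻¹ * k * q₀ = (h : G)⁻¹ * ((k : G) * q₀ * (k : G)⁻¹) * k := by group
        _ = (h : G)⁻¹ * ((h : G) * q₀ * (h : G)⁻¹) * k := by rw [e']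
        _ = q₀ * ((h : G)⁻¹ * k) := by group
    apply FaithfulSMul.eq_of_smul_eq_smul (α := Ω)
    intro z
    obtain ⟨⟨q, hq⟩, rfl⟩ := exists_smul_eq (Q : Subgroup G) a z
    obtain ⟨i, rfl⟩ := Subgroup.mem_zpowers_iff.1 (hgen.symm ▸ hq)
    change ((h : G)⁻¹ * k) • (q₀ : G) ^ i • a = (1 : G) • (q₀ : G) ^ i • a
    rw [one_smul, ← mul_smul, (hc.zpow_right i).eq, mul_smul,
      (mul_mem (inv_mem h.2) k.2 : (h : G)⁻¹ * k ∈ stabilizer G a)]
  have h5 := Nat.card_le_card_of_injective f hf
  have := Fintype.ofFinite (Q : Subgroup G)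
  rw [Nat.card_eq_fintype_card (α := {q : (Q : Subgroup G) // q ≠ 1}), Fintype.card_subtype_compl,
    Fintype.card_subtype_eq, ← Nat.card_eq_fintype_card, hQ] at h5
  rw [hG]
  omega

end Cfsg.Agent.SqPlusOne
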